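import Mathlib
import Cfsg.Agent.Lib.Helper10.BR0
import Cfsg.Agent.Lib.Helper82.CharCore

/-!
# S0999 (Brauer–Reynolds) piece BR-X2 (helper92 for helper10): `χ = ±1` on `P \ {1}` forces
`χ(1) ∣ [G : C_G(P)]` (integrality of the central character)
-/

set_option autoImplicit false

namespace Cfsg.Agent.Lib.Helper10.BR

open Cfsg
open Cfsg.Agent.Lib.Helper83 (trivIrr)
open scoped ComplexConjugate

/-- BR-X2 -/
theorem deg_dvd {G : Type*} [Group G] [Fintype G] (p : ℕ) (hp : p.Prime) (P : Subgroup G)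
    (hP : Nat.card P = p) (χ : IrrCharacter G) (s : ℤ) (hs : s = 1 ∨ s = -1)
    (hval : ∀ x ∈ P, x ≠ 1 → (χ : G → ℂ) x = (s : ℂ)) :
    charDegree (χ : G → ℂ) ∣ (Subgroup.centralizer (P : Set G)).index := by
  have : Fact p.Prime := ⟨hp⟩
  have hnt : ∃ x ∈ P, x ≠ 1 := by
    by_contra hcon
    push Not at hcon
    have hbot : P = ⊥ := (Subgroup.eq_bot_iff_forall P).mpr hcon
    rw [hbot, Subgroup.card_bot] at hP
    exact hp.one_lt.ne hP
  obtain ⟨x, hxP, hx1⟩ := hnt
  have hcent : Subgroup.centralizer ({x} : Set G) = Subgroup.centralizer (P : Set G) := by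
    apply le_antisymm
    · intro g hg
      rw [Subgroup.mem_centralizer_iff] at hg ⊢
      intro y hy
      have hz : Subgroup.zpowers (⟨x, hxP⟩ : P) = ⊤ :=
        zpowers_eq_top_of_prime_card (p := p) hP
          (by intro h; exact hx1 (congrArg Subtype.val h))
      have hmem : (⟨y, hy⟩ : P) ∈ Subgroup.zpowers (⟨x, hxP⟩ : P) := by rw [hz]; trivial
      obtain ⟨k, hk⟩ := Subgroup.mem_zpowers_iff.mp hmem
      have hyk : y = x ^ k := by
        have h1 := congrArg Subtype.val hk
        simpa using h1.symm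
      have hgx : x * g = g * x := hg x rfl
      rw [hyk]
      exact (Commute.zpow_left (show Commute x g from hgx) k).eq
    · exact Subgroup.centralizer_le (Set.singleton_subset_iff.mpr hxP)
  rw [← hcent]
  have hint := Cfsg.Agent.Lib.Helper82.irr_centralChar_isIntegral χ x
  obtain ⟨hdeg, hdeg0⟩ := Cfsg.Agent.Lib.Helper82.irr_charDegree χ
  unfold centralChar at hint
  rw [hval x hxP hx1, ← hdeg] at hint
  apply Cfsg.Agent.Lib.Helper82.isIntegral_div_imp_dvd _ _ hdeg0
  rcases hs with rfl | rfl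
  · simpa using hint
  · have h2 := hint.neg
    convert h2 using 1
    push_cast
    ring

end Cfsg.Agent.Lib.Helper10.BR
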