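import Mathlib

/-!
Job-board piece DO-CL5 (helper22's S0960 project): for a Sylow `p`-subgroup `P` of order `p`
generated by `z`, the number of units `s` with `z ^ s` conjugate to `z` is `[N(P) : C(P)]`.
-/

set_option autoImplicit false

namespace Cfsg.Agent.Lib.Helper92.DO

variable {G : Type*} [Group G]

theorem cf_exists (p : ℕ) [Fact p.Prime] (z : G) (hzo : orderOf z = p) (x : G)
    (hx : x ∈ Subgroup.zpowers z) (hx1 : x ≠ 1) :
    ∃ s : (ZMod p)ˣ, x = z ^ (s : ZMod p).val := by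
  obtain ⟨k, hk⟩ := (Subgroup.mem_zpowers_iff).mp hx
  have hc : (k : ZMod p) ≠ 0 := by
    intro h0
    have h1 : (p : ℤ) ∣ k := (ZMod.intCast_zmod_eq_zero_iff_dvd k p).mp h0
    apply hx1
    rw [← hk]
    obtain ⟨m, rfl⟩ := h1
    rw [zpow_mul, zpow_natCast, ← hzo, pow_orderOf_eq_one, one_zpow]
  refine ⟨Units.mk0 (k : ZMod p) hc, ?_⟩
  rw [Units.val_mk0]
  have hv : (((k : ZMod p).val : ℕ) : ℤ) = k % (p : ℤ) := ZMod.val_intCast k
  rw [← hk, ← zpow_natCast, hv, ← hzo, zpow_mod_orderOf]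

theorem cf_unique (p : ℕ) [Fact p.Prime] (z : G) (hzo : orderOf z = p) (s t : (ZMod p)ˣ)
    (h : z ^ (s : ZMod p).val = z ^ (t : ZMod p).val) : s = t := by
  have h1 := pow_eq_pow_iff_modEq.mp h
  rw [hzo] at h1
  have h2 : (s : ZMod p).val = (t : ZMod p).val :=
    Nat.ModEq.eq_of_lt_of_lt h1 (ZMod.val_lt _) (ZMod.val_lt _)
  exact Units.ext (ZMod.val_injective p h2)

theorem cf_pow_mul (p : ℕ) [Fact p.Prime] (z : G) (hzo : orderOf z = p) (s t : (ZMod p)ˣ) :
    z ^ ((s * t : (ZMod p)ˣ) : ZMod p).val = (z ^ (s : ZMod p).val) ^ (t : ZMod p).val := by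
  have h1 := pow_mod_orderOf z ((s : ZMod p).val * (t : ZMod p).val)
  rw [hzo] at h1
  rw [Units.val_mul, ZMod.val_mul, h1, pow_mul]

theorem cf_order (p : ℕ) [Fact p.Prime] (P : Sylow p G) (hP : Nat.card P = p)
    (z : G) (hz : z ∈ (P : Subgroup G)) (hz1 : z ≠ 1) : orderOf z = p := by
  have hp : p.Prime := Fact.out
  have h1 : orderOf (⟨z, hz⟩ : (P : Subgroup G)) ∣ Nat.card (P : Subgroup G) :=
    orderOf_dvd_natCard _
  rw [hP, Subgroup.orderOf_mk] at h1
  rcases (Nat.dvd_prime hp).mp h1 with h | h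
  · exact absurd (orderOf_eq_one_iff.mp h) hz1
  · exact h

variable [Fintype G]

theorem cf_zpowers (p : ℕ) [Fact p.Prime] (P : Sylow p G) (hP : Nat.card P = p)
    (z : G) (hz : z ∈ (P : Subgroup G)) (hz1 : z ≠ 1) :
    (P : Subgroup G) = Subgroup.zpowers z := by
  symm
  apply Subgroup.eq_of_le_of_card_ge
  · rwa [Subgroup.zpowers_le]
  · rw [Nat.card_zpowers, cf_order p P hP z hz hz1, hP]

/-- Piece DO-CL5. -/
theorem card_fusion (p : ℕ) [Fact p.Prime] (P : Sylow p G) (hP : Nat.card P = p)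
    (z : G) (hz : z ∈ (P : Subgroup G)) (hz1 : z ≠ 1) :
    Nat.card {s : (ZMod p)ˣ // ∃ g : G, g * z * g⁻¹ = z ^ (s : ZMod p).val} =
      (Subgroup.centralizer ((P : Subgroup G) : Set G)).relIndex
        (Subgroup.normalizer ((P : Subgroup G) : Set G)) := by
  classical
  have hzo := cf_order p P hP z hz hz1
  have hPz := cf_zpowers p P hP z hz hz1
  -- the exponent of a normalising element
  have hex : ∀ n : ↥(Subgroup.normalizer ((P : Subgroup G) : Set G)),
      ∃ s : (ZMod p)ˣ, (n : G) * z * (n : G)⁻¹ = z ^ (s : ZMod p).val := by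
    intro n
    have h1 : (n : G) * z * (n : G)⁻¹ ∈ (P : Subgroup G) :=
      (Subgroup.mem_normalizer_iff.mp n.2 z).mp hz
    exact cf_exists p z hzo _ (hPz.le h1) (fun h => hz1 (conj_eq_one_iff.mp h))
  choose f hf using hex
  have hmul : ∀ a b : ↥(Subgroup.normalizer ((P : Subgroup G) : Set G)),
      f (a * b) = f a * f b := by
    intro a b
    apply cf_unique p z hzo
    rw [← hf (a * b), cf_pow_mul p z hzo, ← hf a, conj_pow, ← hf b]
    simp only [Subgroup.coe_mul, mul_inv_rev]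
    group
  let φ : ↥(Subgroup.normalizer ((P : Subgroup G) : Set G)) →* (ZMod p)ˣ := MonoidHom.mk' f hmul
  have hφ : ∀ n, φ n = f n := fun n => rfl
  have hp1 : (1 : ZMod p).val = 1 := by
    have : Fact (1 < p) := ⟨(Fact.out : p.Prime).one_lt⟩
    exact ZMod.val_one p
  -- the kernel is the centraliser
  have hker : φ.ker = (Subgroup.centralizer ((P : Subgroup G) : Set G)).subgroupOf
      (Subgroup.normalizer ((P : Subgroup G) : Set G)) := by
    ext n
    rw [MonoidHom.mem_ker, Subgroup.mem_subgroupOf, hφ]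
    constructor
    · intro h1
      have h2 := hf n
      rw [h1, Units.val_one, hp1, pow_one] at h2
      have h3 : (n : G) * z = z * (n : G) := by
        calc (n : G) * z = (n : G) * z * (n : G)⁻¹ * (n : G) := by group
          _ = z * (n : G) := by rw [h2]
      rw [Subgroup.mem_centralizer_iff]
      intro x hx
      have hx' : x ∈ Subgroup.zpowers z := hPz.le hx
      obtain ⟨k, rfl⟩ := Subgroup.mem_zpowers_iff.mp hx'
      exact ((Commute.zpow_left (show Commute z (n : G) from h3.symm) k)).eq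
    · intro h1
      rw [Subgroup.mem_centralizer_iff] at h1
      have h2 : z * (n : G) = (n : G) * z := h1 z hz
      apply cf_unique p z hzo
      rw [← hf n, Units.val_one, hp1, pow_one, ← h2]
      group
  -- the range is the fusion set
  have hrange : ∀ s : (ZMod p)ˣ, s ∈ φ.range ↔
      ∃ g : G, g * z * g⁻¹ = z ^ (s : ZMod p).val := by
    intro s
    constructor
    · rintro ⟨n, rfl⟩
      exact ⟨(n : G), hf n⟩
    · rintro ⟨g, hg⟩
      have hgN : g ∈ Subgroup.normalizer ((P : Subgroup G) : Set G) := by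
        apply Subgroup.mem_normalizer_fintype
        intro x hx
        have hx' : x ∈ Subgroup.zpowers z := hPz.le hx
        obtain ⟨k, rfl⟩ := Subgroup.mem_zpowers_iff.mp hx'
        show g * z ^ k * g⁻¹ ∈ (P : Subgroup G)
        rw [← conj_zpow, hg]
        exact hPz.ge (Subgroup.zpow_mem _ (Subgroup.pow_mem _ (Subgroup.mem_zpowers z) _) _)
      refine ⟨⟨g, hgN⟩, ?_⟩
      apply cf_unique p z hzo
      rw [hφ, ← hf ⟨g, hgN⟩, ← hg]
  rw [Subgroup.relIndex, ← hker, Subgroup.index_ker]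
  exact Nat.card_congr (Equiv.subtypeEquivRight (fun s => (hrange s).symm))

end Cfsg.Agent.Lib.Helper92.DO
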