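import Mathlib

/-!
# Piece LA of S2175/S2174 (helper25's project), proved by helper92
-/

set_option autoImplicit false
set_option linter.unusedSectionVars false

namespace Cfsg.Agent.Lib.Helper25

section LinAlg

variable {F : Type*} [Field F] {ι : Type*} [Fintype ι] [DecidableEq ι]

/-- LA1 -/
theorem inv_linIndep_tri (k : ℕ) (w : Fin k → ι → F) (p : Fin k → ι)
    (hd : ∀ a, w a (p a) ≠ 0) (hz : ∀ a b, a < b → w b (p a) = 0) :
    LinearIndependent F w := by
  rw [Fintype.linearIndependent_iff]
  intro c hc
  have key : ∀ m : ℕ, ∀ a : Fin k, a.val = m → c a = 0 := by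
    intro m
    induction m using Nat.strong_induction_on with
    | _ m ih =>
      intro a ham
      have h1 := congrFun hc (p a)
      simp only [Finset.sum_apply, Pi.smul_apply, smul_eq_mul, Pi.zero_apply] at h1
      rw [Finset.sum_eq_single a] at h1
      · exact (mul_eq_zero.1 h1).resolve_right (hd a)
      · intro b _ hba
        rcases lt_or_gt_of_ne hba with hlt | hgt
        · rw [ih b.val (by rw [← ham]; exact hlt) b rfl, zero_mul]
        · rw [hz a b hgt, mul_zero]
      · intro h; exact absurd (Finset.mem_univ a) h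
  intro a
  exact key a.val a rfl

/-- LA2 -/
theorem inv_not_conj_of_cert (M₁ M₂ P : Matrix ι ι F) (hP : IsUnit P.det)
    (hconj : P * M₁ = M₂ * P) (a b : ℕ)
    (v : Fin a → ι → F) (hv : LinearIndependent F v) (hfix : ∀ j, M₁.mulVec (v j) = v j)
    (w : Fin b → ι → F)
    (hw : LinearIndependent F (fun j => M₂.mulVec (w j) - w j))
    (hab : Fintype.card ι < a + b) : False := by
  classical
  obtain ⟨f, hf⟩ : ∃ f : (ι → F) →ₗ[F] (ι → F), ∀ x, f x = M₂.mulVec x - x := by
    refine ⟨Matrix.mulVecLin (M₂ - 1), fun x => ?_⟩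
    rw [Matrix.mulVecLin_apply, Matrix.sub_mulVec, Matrix.one_mulVec]
  have hPinj : Function.Injective P.mulVec := by
    rw [Matrix.mulVec_injective_iff_isUnit, Matrix.isUnit_iff_isUnit_det]
    exact hP
  have hPv : LinearIndependent F (fun j => P.mulVec (v j)) := by
    have h1 : LinearMap.ker (Matrix.mulVecLin P) = ⊥ := by
      rw [LinearMap.ker_eq_bot]
      intro x y hxy
      rw [Matrix.mulVecLin_apply, Matrix.mulVecLin_apply] at hxy
      exact hPinj hxy
    exact hv.map' (Matrix.mulVecLin P) h1
  have hker : a ≤ Module.finrank F (LinearMap.ker f) := by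
    have h1 : Submodule.span F (Set.range (fun j => P.mulVec (v j))) ≤ LinearMap.ker f := by
      rw [Submodule.span_le]
      rintro _ ⟨j, rfl⟩
      rw [SetLike.mem_coe, LinearMap.mem_ker, hf]
      have h3 : M₂.mulVec (P.mulVec (v j)) = P.mulVec (v j) := by
        rw [Matrix.mulVec_mulVec, ← hconj, ← Matrix.mulVec_mulVec, hfix]
      rw [h3, sub_self]
    have h2 := Submodule.finrank_mono h1
    rw [finrank_span_eq_card hPv, Fintype.card_fin] at h2
    exact h2
  have hrange : b ≤ Module.finrank F (LinearMap.range f) := by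
    have h1 : Submodule.span F (Set.range (fun j => M₂.mulVec (w j) - w j)) ≤
        LinearMap.range f := by
      rw [Submodule.span_le]
      rintro _ ⟨j, rfl⟩
      exact ⟨w j, hf (w j)⟩
    have h2 := Submodule.finrank_mono h1
    rw [finrank_span_eq_card hw, Fintype.card_fin] at h2
    exact h2
  have hrn := LinearMap.finrank_range_add_finrank_ker f
  rw [Module.finrank_fintype_fun_eq_card] at hrn
  omega

end LinAlg

end Cfsg.Agent.Lib.Helper25
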