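import Mathlib
import Cfsg.Agent.Lib.Helper18.CTDefs

/-! Project CT (S4699), piece TAU3 (backup copy): the range of `tau` is the range of
`(ρ x - 1) ^ e`, `e` the size of the orbit of `x` under the normalizer. -/

set_option autoImplicit false

namespace Cfsg.Agent.Lib.Helper18.CT

variable {G : Type*} [Group G] {F : Type*} [Field F] {V : Type*} [AddCommGroup V] [Module F V]

omit [Field F] [AddCommGroup V] [Module F V] in
theorem tau3b_orb [Finite G] (P : Subgroup G) (x : G) (hx : Subgroup.zpowers x = P) (u : G)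
    (hu : u ∈ orbN P x) : ∃ a b : ℕ, u = x ^ a ∧ x = u ^ b := by
  unfold orbN at hu
  rw [Set.Finite.mem_toFinset] at hu
  obtain ⟨g, hg, rfl⟩ := hu
  have hxP : x ∈ P := by
    rw [← hx]
    exact Subgroup.mem_zpowers x
  have h1 : g * x * g⁻¹ ∈ P := (Subgroup.mem_normalizer_iff.mp hg x).mp hxP
  have h2 : g⁻¹ * x * g ∈ P := by
    rw [Subgroup.mem_normalizer_iff.mp hg (g⁻¹ * x * g)]
    have e : g * (g⁻¹ * x * g) * g⁻¹ = x := by group
    rw [e]
    exact hxP
  rw [← hx, ← mem_powers_iff_mem_zpowers, Submonoid.mem_powers_iff] at h1 h2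
  obtain ⟨a, ha⟩ := h1
  obtain ⟨b, hb⟩ := h2
  refine ⟨a, b, ha.symm, ?_⟩
  rw [conj_pow, hb]
  group

theorem tau3b_step (y c w w' : Module.End F V) (h1 : c = w * y) (h2 : Commute w y)
    (h3 : y = c * w') (h4 : Commute w' y) (k : ℕ) :
    LinearMap.range (c * y ^ k) = LinearMap.range (y ^ (k + 1)) := by
  apply le_antisymm
  · have e : c * y ^ k = y ^ (k + 1) * w := by
      rw [h1, mul_assoc, ← pow_succ', (h2.pow_right (k + 1)).eq]
    rw [e, Module.End.mul_eq_comp]
    exact LinearMap.range_comp_le_range _ _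
  · have e : y ^ (k + 1) = c * y ^ k * w' := by
      rw [mul_assoc, ← (h4.pow_right k).eq, ← mul_assoc, ← h3, pow_succ']
    rw [e, Module.End.mul_eq_comp]
    exact LinearMap.range_comp_le_range _ _

theorem tau3b_list (ρ : Representation F G V) (x : G) (l : List G)
    (hl : ∀ u ∈ l, ∃ w w' : Module.End F V, ρ u - 1 = w * (ρ x - 1) ∧ Commute w (ρ x - 1) ∧
      ρ x - 1 = (ρ u - 1) * w' ∧ Commute w' (ρ x - 1)) :
    LinearMap.range ((l.map (fun u => ρ u - 1)).prod) =
      LinearMap.range ((ρ x - 1) ^ l.length) := by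
  induction l with
  | nil => simp
  | cons u t ih =>
    obtain ⟨w, w', h1, h2, h3, h4⟩ := hl u List.mem_cons_self
    have iht := ih (fun v hv => hl v (List.mem_cons_of_mem _ hv))
    rw [List.map_cons, List.prod_cons, List.length_cons, Module.End.mul_eq_comp,
      LinearMap.range_comp, iht, ← LinearMap.range_comp, ← Module.End.mul_eq_comp]
    exact tau3b_step _ _ w w' h1 h2 h3 h4 _

-- piece TAU3
theorem tau_range [Finite G] (ρ : Representation F G V) (P : Subgroup G) (x : G)
    (hx : Subgroup.zpowers x = P) :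
    LinearMap.range (tau ρ P x) = LinearMap.range ((ρ x - 1) ^ (orbN P x).card) := by
  have hl : ∀ u ∈ (orbN P x).toList, ∃ w w' : Module.End F V, ρ u - 1 = w * (ρ x - 1) ∧
      Commute w (ρ x - 1) ∧ ρ x - 1 = (ρ u - 1) * w' ∧ Commute w' (ρ x - 1) := by
    intro u hu
    rw [Finset.mem_toList] at hu
    obtain ⟨a, b, ha, hb⟩ := tau3b_orb P x hx u hu
    refine ⟨∑ i ∈ Finset.range a, ρ x ^ i, ∑ i ∈ Finset.range b, ρ u ^ i, ?_, ?_, ?_, ?_⟩
    · rw [geom_sum_mul, ← map_pow, ← ha]
    · exact (geom_sum_mul (ρ x) a).trans (mul_geom_sum (ρ x) a).symm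
    · rw [mul_geom_sum, ← map_pow, ← hb]
    · apply Commute.sum_left
      intro i _
      have h5 : Commute (ρ u) (ρ x) := by
        rw [ha, map_pow]
        exact (Commute.refl (ρ x)).pow_left a
      exact (h5.pow_left i).sub_right (Commute.one_right _)
  unfold tau
  rw [tau3b_list ρ x (orbN P x).toList hl, Finset.length_toList]

end Cfsg.Agent.Lib.Helper18.CT
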