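import Cfsg.Agent.Lib.Helper61.F15Defs
import Cfsg.Prelude.Def_CaseTheorems

/-!
# S1615 piece P1 (helper92 for helper61): a non-central odd-order normal subgroup of `⟨D_x⟩`
gives twins
-/

set_option autoImplicit false

open Cfsg Cfsg.Agent.Lib.Helper11 Cfsg.Agent.Lib.Helper61.F15

namespace Cfsg.Agent.Lib.Helper92.F15

variable {G : Type*} [Group G] {D : Set G}

/-- the core computation: `N'` is normalized by `L`, has no involutions, `v * u ∈ N'`;
a member `f` of `D` in `L` commuting with `u` and different from `u` commutes with `v` -/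
theorem tw_key (hD : IsThreeTranspositionClass D) (L N' : Subgroup G)
    (hnorm : ∀ l ∈ L, ∀ t ∈ N', l * t * l⁻¹ ∈ N')
    (hodd : ∀ t ∈ N', t * t = 1 → t = 1)
    {u v f : G} (hu : u ∈ D) (hv : v ∈ D) (hf : f ∈ D) (huL : u ∈ L) (hfL : f ∈ L)
    (hvu : v * u ∈ N') (hfu : Commute f u) (hne : f ≠ u) : Commute f v := by
  by_contra hfv
  have h3 : (f * v) ^ 3 = 1 := (tt_braid hD hf hv hfv).2
  have huu := tt_sq hD hu
  have hvv := tt_sq hD hv
  have hff := tt_sq hD hf
  obtain ⟨c, hc⟩ : ∃ c : G, c = v * u := ⟨_, rfl⟩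
  have hcN : c ∈ N' := by rw [hc]; exact hvu
  have hvc : v = c * u := by rw [hc, mul_assoc, huu, mul_one]
  have hcomm : ∀ X : G, u * (f * X) = f * (u * X) := by
    intro X
    rw [← mul_assoc, ← mul_assoc, hfu.eq]
  have e1 : f * v * (f * v) = (f * c * f⁻¹) * (u * c * u⁻¹) := by
    rw [tt_inv hD hf, tt_inv hD hu, hvc]
    simp only [mul_assoc, hcomm]
  have h2N : f * v * (f * v) ∈ N' := by
    rw [e1]
    exact N'.mul_mem (hnorm f hfL c hcN) (hnorm u huL c hcN)
  have hfvN : f * v ∈ N' := by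
    have h4 : f * v * (f * v) * (f * v) = 1 := by
      rw [← h3, pow_succ, pow_two]
    have h5 : f * v = (f * v * (f * v))⁻¹ := eq_inv_of_mul_eq_one_right h4
    rw [h5]
    exact N'.inv_mem h2N
  have hfuN : f * u ∈ N' := by
    have h6 : f * u = f * v * (v * u) := by
      rw [mul_assoc, ← mul_assoc v v u, hvv, one_mul]
    rw [h6]
    exact N'.mul_mem hfvN hvu
  have h7 : f * u * (f * u) = 1 := by
    rw [← pow_two]
    exact tt_sq_of_commute hD hf hu hfu
  have h8 := hodd _ hfuN h7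
  have h9 : f = u⁻¹ := eq_inv_of_mul_eq_one_left h8
  rw [tt_inv hD hu] at h9
  exact hne h9

theorem tw_of_hyp [Finite G] (hD : IsThreeTranspositionClass D) {x : G} (hx : x ∈ D)
    (h : ¬ Cfsg.oddCore ↥(Subgroup.closure (Dn D x)) ≤
      Subgroup.center ↥(Subgroup.closure (Dn D x))) : ∃ y z, Tw D x y z := by
  have h1 : ∃ N : Subgroup ↥(Subgroup.closure (Dn D x)), N.Normal ∧ (Nat.card N).Coprime 2 ∧
      ¬ N ≤ Subgroup.center ↥(Subgroup.closure (Dn D x)) := by
    by_contra hcon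
    push Not at hcon
    apply h
    exact sSup_le (fun N hN => hcon N hN.1 hN.2)
  obtain ⟨N, hNn, hNodd, hNc⟩ := h1
  obtain ⟨n, hnN, hnc⟩ := SetLike.not_le_iff_exists.mp hNc
  -- `L` centralizes `x`
  have hLx : ∀ l ∈ Subgroup.closure (Dn D x), x * l = l * x := by
    have h2 : Subgroup.closure (Dn D x) ≤ Subgroup.centralizer {x} := by
      rw [Subgroup.closure_le]
      intro y hy
      rw [SetLike.mem_coe, Subgroup.mem_centralizer_iff]
      intro g hg
      rw [Set.mem_singleton_iff] at hg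
      rw [hg]
      exact hy.2.2.eq
    intro l hl
    exact (Subgroup.mem_centralizer_iff.mp (h2 hl)) x rfl
  -- a neighbour not commuting with `n`
  have h3 : ∃ y ∈ Dn D x, ¬ (n : G) * y = y * (n : G) := by
    by_contra hall
    push Not at hall
    apply hnc
    rw [Subgroup.mem_center_iff]
    intro g
    have h4 : Subgroup.closure (Dn D x) ≤ Subgroup.centralizer {(n : G)} := by
      rw [Subgroup.closure_le]
      intro y hy
      rw [SetLike.mem_coe, Subgroup.mem_centralizer_iff]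
      intro k hk
      rw [Set.mem_singleton_iff] at hk
      rw [hk]
      exact hall y hy
    have h5 := (Subgroup.mem_centralizer_iff.mp (h4 g.2)) (n : G) rfl
    exact Subtype.ext h5.symm
  obtain ⟨y, hy, hny⟩ := h3
  -- the image of `N` in `G`
  obtain ⟨N', hN'⟩ : ∃ N' : Subgroup G, N' = N.map (Subgroup.closure (Dn D x)).subtype := ⟨_, rfl⟩
  have hN'L : N' ≤ Subgroup.closure (Dn D x) := by
    rw [hN']
    rintro t ⟨s, -, rfl⟩
    exact s.2
  have hnorm : ∀ l ∈ Subgroup.closure (Dn D x), ∀ t ∈ N', l * t * l⁻¹ ∈ N' := by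
    intro l hl t ht
    rw [hN'] at ht ⊢
    obtain ⟨s, hs, rfl⟩ := ht
    exact ⟨⟨l, hl⟩ * s * ⟨l, hl⟩⁻¹, hNn.conj_mem s hs ⟨l, hl⟩, rfl⟩
  have hodd : ∀ t ∈ N', t * t = 1 → t = 1 := by
    intro t ht htt
    rw [hN'] at ht
    obtain ⟨s, hs, rfl⟩ := ht
    have hss : s ^ 2 = 1 := by
      rw [pow_two]
      exact Subtype.ext htt
    have h6 : orderOf s ∣ 2 := orderOf_dvd_of_pow_eq_one hss
    have h7 : orderOf s ∣ Nat.card N := by
      have h8 : orderOf (⟨s, hs⟩ : N) = orderOf s := Subgroup.orderOf_mk s hs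
      rw [← h8]
      exact orderOf_dvd_natCard _
    have h9 : orderOf s = 1 := Nat.eq_one_of_dvd_coprimes hNodd h7 h6
    rw [orderOf_eq_one_iff.mp h9]
    rfl
  have hnN' : (n : G) ∈ N' := by
    rw [hN']
    exact ⟨n, hnN, rfl⟩
  have hyD : y ∈ D := hy.1
  have hyL : y ∈ Subgroup.closure (Dn D x) := Subgroup.subset_closure hy
  have hyy := tt_sq hD hyD
  have hyinv := tt_inv hD hyD
  obtain ⟨z, hz⟩ : ∃ z : G, z = (n : G) * y * (n : G)⁻¹ := ⟨_, rfl⟩
  have hzD : z ∈ D := by rw [hz]; exact tt_conj_mem hD hyD _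
  have hzL : z ∈ Subgroup.closure (Dn D x) := by
    rw [hz]
    exact Subgroup.mul_mem _ (Subgroup.mul_mem _ n.2 hyL) (Subgroup.inv_mem _ n.2)
  have hzinv := tt_inv hD hzD
  have hzy : z * y ∈ N' := by
    have h10 : z * y = (n : G) * (y * (n : G)⁻¹ * y⁻¹) := by
      rw [hz, hyinv]
      simp only [mul_assoc]
    rw [h10]
    exact N'.mul_mem hnN' (hnorm y hyL _ (N'.inv_mem hnN'))
  have hyz : y * z ∈ N' := by
    have h11 : y * z = (z * y)⁻¹ := by rw [mul_inv_rev, hyinv, hzinv]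
    rw [h11]
    exact N'.inv_mem hzy
  have hxz : Commute x z := by
    have h12 : x * (n : G) = (n : G) * x := hLx _ n.2
    have h13 : x * (n : G)⁻¹ = (n : G)⁻¹ * x := hLx _ (Subgroup.inv_mem _ n.2)
    have h14 : x * y = y * x := hy.2.2.eq
    show x * z = z * x
    rw [hz]
    calc x * ((n : G) * y * (n : G)⁻¹) = (x * (n : G)) * y * (n : G)⁻¹ := by simp only [mul_assoc]
      _ = (n : G) * (x * y) * (n : G)⁻¹ := by rw [h12]; simp only [mul_assoc]
      _ = (n : G) * y * (x * (n : G)⁻¹) := by rw [h14]; simp only [mul_assoc]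
      _ = (n : G) * y * (n : G)⁻¹ * x := by rw [h13]; simp only [mul_assoc]
  have hnyz : ¬ Commute y z := by
    intro hc
    have h15 : y * z * (y * z) = 1 := by
      rw [← pow_two]
      exact tt_sq_of_commute hD hyD hzD hc
    have h16 := hodd _ hyz h15
    have h17 : z = y := by
      have := eq_inv_of_mul_eq_one_right h16
      rw [this, hyinv]
    apply hny
    rw [hz] at h17
    calc (n : G) * y = (n : G) * y * (n : G)⁻¹ * (n : G) := by simp only [mul_assoc, inv_mul_cancel, mul_one]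
      _ = y * (n : G) := by rw [h17]
  refine ⟨y, z, hx, hyD, hzD, hy.2.2, hxz, hnyz, ?_⟩
  intro f hf hxf hfy hfz
  by_cases hfx : f = x
  · rw [hfx]
    exact iff_of_true hy.2.2 hxz
  have hfL : f ∈ Subgroup.closure (Dn D x) := Subgroup.subset_closure ⟨hf, hfx, hxf⟩
  constructor
  · intro hc
    exact tw_key hD _ N' hnorm hodd hyD hzD hf hyL hfL hzy hc hfy
  · intro hc
    exact tw_key hD _ N' hnorm hodd hzD hyD hf hzL hfL hyz hc hfz

end Cfsg.Agent.Lib.Helper92.F15
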