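import Cfsg.Agent.Lib.Helper92.FT12Defs
import Cfsg.Agent.Lib.Helper3.BG12f

/-!
# S1421, piece TAU (helper92, fallback)
-/

set_option autoImplicit false

open Cfsg Cfsg.Agent.Lib.Helper92.FT Cfsg.Agent.Lib.Helper32 Cfsg.Agent.Lib.Helper32.BG10
  Cfsg.Agent.Lib.Helper3.BG12

namespace Cfsg.Agent.Lib.Helper92.FT12

universe u

theorem tau : TauStmt.{u} := by
  intro G _ _ hG M E hM hE
  have h1 : ∀ r : ℕ, r.Prime → r ∣ Nat.card E → r ∈ tau1 M ∪ tau3 M ∨ r ∈ tau2 M := by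
    intro r hr hrE
    have hnσ : r ∉ sigma M :=
      Cfsg.Agent.Lib.Helper3.BG12T.not_mem_sigma_of_dvd_compl hG hM hE hr hrE
    have hrM : r ∣ Nat.card M := hrE.trans (Subgroup.card_dvd_of_le hE.1)
    have h2 : PRankLE r 2 M := by
      by_contra h2
      exact hnσ (alpha_sub_sigma hG (ut_of hG) hM ⟨hr, h2⟩)
    by_cases h1 : PRankLE r 1 M
    · by_cases hd : r ∣ Nat.card ↥⁅M, M⁆
      · exact Or.inl (Or.inr ⟨hr, hnσ, hd, h1⟩)
      · exact Or.inl (Or.inl ⟨hr, hnσ, hrM, hd, h1⟩)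
    · exact Or.inr ⟨hr, hnσ, h2, h1⟩
  refine ⟨h1, ?_, ?_⟩
  · intro p hp
    have : Fact p.Prime := ⟨hp.1⟩
    obtain ⟨A, hAE, hA, hA2⟩ :=
      Cfsg.Agent.Lib.Helper3.BG12T.exists_tau2_elemAb hG hM hE hp
    exact ⟨A, ⟨hp, hAE, hA, hA2⟩⟩
  · intro h e he hfix r hr hre
    by_contra hr2
    have ho : orderOf e ≠ 0 := (orderOf_pos e).ne'
    have hord : orderOf (e ^ (orderOf e / r)) = r := orderOf_pow_orderOf_div ho hre
    have he' : e ^ (orderOf e / r) ∈ E := E.pow_mem he _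
    have hne : e ^ (orderOf e / r) ≠ 1 := by
      intro h0
      rw [h0, orderOf_one] at hord
      exact hr.one_lt.ne hord
    have hrE : r ∣ Nat.card E := by
      have h3 : orderOf (⟨e ^ (orderOf e / r), he'⟩ : ↥E) ∣ Nat.card E := orderOf_dvd_natCard _
      rwa [Subgroup.orderOf_mk, hord] at h3
    have hr13 : r ∈ tau1 M ∪ tau3 M := (h1 r hr hrE).resolve_right hr2
    have h4 := h _ he' hne (fun p hp hpd => by
      rw [hord] at hpd
      rw [(Nat.prime_dvd_prime_iff_eq hp hr).mp hpd]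
      exact hr13)
    apply hfix
    rw [eq_bot_iff, ← h4]
    refine inf_le_inf_left _ ?_
    intro x hx
    rw [Subgroup.mem_centralizer_iff] at hx ⊢
    intro y hy
    rw [Set.mem_singleton_iff] at hy
    subst hy
    have h5 : Commute e x := hx e (Set.mem_singleton e)
    exact (h5.pow_left _).eq

end Cfsg.Agent.Lib.Helper92.FT12
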