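import Mathlib

set_option autoImplicit false

namespace Cfsg.Agent.Lib.Helper92

variable {G : Type*} [Group G]

/-- The subgroup of `H` generated by the centralizers in `H` of `a`, `b` and `a * b`. -/
def gen3 (H : Subgroup G) (a b : G) : Subgroup G :=
  (H ⊓ Subgroup.centralizer {a}) ⊔ (H ⊓ Subgroup.centralizer {b}) ⊔
    (H ⊓ Subgroup.centralizer {a * b})

theorem gen3_le (H : Subgroup G) (a b : G) : gen3 H a b ≤ H :=
  sup_le (sup_le inf_le_left inf_le_left) inf_le_left

theorem inf_centralizer_le_gen3_left (H : Subgroup G) (a b : G) :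
    H ⊓ Subgroup.centralizer {a} ≤ gen3 H a b :=
  le_sup_of_le_left le_sup_left

theorem inf_centralizer_le_gen3_right (H : Subgroup G) (a b : G) :
    H ⊓ Subgroup.centralizer {b} ≤ gen3 H a b :=
  le_sup_of_le_left le_sup_right

theorem inf_centralizer_le_gen3_mul (H : Subgroup G) (a b : G) :
    H ⊓ Subgroup.centralizer {a * b} ≤ gen3 H a b :=
  le_sup_right

theorem gen3_mono {H K : Subgroup G} (h : H ≤ K) (a b : G) : gen3 H a b ≤ gen3 K a b :=
  sup_le_sup (sup_le_sup (inf_le_inf_right _ h) (inf_le_inf_right _ h)) (inf_le_inf_right _ h)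

theorem mem_centralizer_singleton {t g : G} : g ∈ Subgroup.centralizer ({t} : Set G) ↔ t * g = g * t := by
  rw [Subgroup.mem_centralizer_iff]
  constructor
  · intro h; exact h t rfl
  · intro h x hx; rw [Set.mem_singleton_iff.mp hx]; exact h

theorem inv_eq_self_of_mul_self {t : G} (ht : t * t = 1) : t⁻¹ = t :=
  inv_eq_of_mul_eq_one_left ht

/-- conjugation by an element `c` commuting with `t` preserves `H ⊓ C(t)`. -/
theorem conj_mem_inf_centralizer {H : Subgroup G} {c t : G} (hcH : ∀ h ∈ H, c * h * c⁻¹ ∈ H)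
    (hct : c * t = t * c) {w : G} (hw : w ∈ H ⊓ Subgroup.centralizer {t}) :
    c * w * c⁻¹ ∈ H ⊓ Subgroup.centralizer {t} := by
  refine Subgroup.mem_inf.mpr ⟨hcH w hw.1, ?_⟩
  have h1 : t * w = w * t := mem_centralizer_singleton.mp hw.2
  rw [mem_centralizer_singleton]
  have hct' : t * c⁻¹ = c⁻¹ * t := by
    have : c⁻¹ * (c * t) * c⁻¹ = c⁻¹ * (t * c) * c⁻¹ := by rw [hct]
    simpa [mul_assoc] using this
  calc t * (c * w * c⁻¹) = (t * c) * w * c⁻¹ := by group
    _ = c * (t * w) * c⁻¹ := by rw [← hct]; group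
    _ = c * w * (t * c⁻¹) := by rw [h1]; group
    _ = c * w * c⁻¹ * t := by rw [hct']; group

theorem conj_mem_gen3 {H : Subgroup G} {a b c : G} (hcH : ∀ h ∈ H, c * h * c⁻¹ ∈ H)
    (hca : c * a = a * c) (hcb : c * b = b * c) {w : G} (hw : w ∈ gen3 H a b) :
    c * w * c⁻¹ ∈ gen3 H a b := by
  have hcab : c * (a * b) = (a * b) * c := by
    rw [← mul_assoc, hca, mul_assoc, hcb, mul_assoc]
  have key : gen3 H a b ≤ (gen3 H a b).comap (MulAut.conj c).toMonoidHom := by
    refine sup_le (sup_le ?_ ?_) ?_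
    · intro x hx
      exact inf_centralizer_le_gen3_left H a b (conj_mem_inf_centralizer hcH hca hx)
    · intro x hx
      exact inf_centralizer_le_gen3_right H a b (conj_mem_inf_centralizer hcH hcb hx)
    · intro x hx
      exact inf_centralizer_le_gen3_mul H a b (conj_mem_inf_centralizer hcH hcab hx)
  exact key hw

/-- Decomposition with respect to an involution: `x * s` is centralized by `t` and `s` is
inverted by `t`, for a suitable power `s` of `x⁻¹ * t * x * t`. -/
theorem invol_decomp {t x : G} (ht : t * t = 1) (hodd : Odd (orderOf (x⁻¹ * t * x * t))) :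
    ∃ s ∈ Subgroup.zpowers (x⁻¹ * t * x * t), t * (x * s) * t = x * s ∧ t * s * t = s⁻¹ := by
  set y := x⁻¹ * t * x * t with hy
  have hti : t⁻¹ = t := inv_eq_self_of_mul_self ht
  have hty : t * y * t = y⁻¹ := by
    rw [hy]
    have : (x⁻¹ * t * x * t)⁻¹ = t⁻¹ * x⁻¹ * t⁻¹ * x := by group
    rw [this, hti]
    calc t * (x⁻¹ * t * x * t) * t = t * x⁻¹ * t * x * (t * t) := by group
      _ = t * x⁻¹ * t * x := by rw [ht, mul_one]
  obtain ⟨r, hr⟩ := hodd
  refine ⟨y ^ (r + 1), Subgroup.pow_mem _ (Subgroup.mem_zpowers y) _, ?_, ?_⟩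
  · have hss : y ^ (r + 1) * y ^ (r + 1) = y := by
      rw [← pow_add]
      have : r + 1 + (r + 1) = orderOf y + 1 := by omega
      rw [this, pow_succ, pow_orderOf_eq_one, one_mul]
    have hts : t * y ^ (r + 1) * t = (y ^ (r + 1))⁻¹ := by
      have := conj_pow (a := t) (b := y) (i := r + 1)
      rw [hti, hty] at this
      rw [← this, inv_pow]
    have htx : t * x * t = x * y := by
      rw [hy]; group
    calc t * (x * y ^ (r + 1)) * t = (t * x * t) * (t⁻¹ * y ^ (r + 1) * t) := by group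
      _ = (x * y) * (y ^ (r + 1))⁻¹ := by rw [hti, htx, mul_assoc t, ← mul_assoc t, hts]
      _ = x * (y ^ (r + 1) * y ^ (r + 1)) * (y ^ (r + 1))⁻¹ := by rw [hss]
      _ = x * y ^ (r + 1) := by group
  · have := conj_pow (a := t) (b := y) (i := r + 1)
    rw [hti, hty] at this
    rw [← this, inv_pow]

/-- The key step: an element normalizing `W` inside an odd order group `N` lies in `W` as soon
as `W` contains the three centralizers in `N`. -/
theorem mem_of_normalizes [Finite G] {N W : Subgroup G} (hN : Odd (Nat.card N)) {a b : G}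
    (ha : a * a = 1) (hb : b * b = 1) (hab : a * b = b * a)
    (hWN : W ≤ N) (hnorm : ∀ n ∈ N, ∀ w ∈ W, n * w * n⁻¹ ∈ W)
    (haN : ∀ n ∈ N, a * n * a ∈ N) (hbN : ∀ n ∈ N, b * n * b ∈ N)
    (haW : ∀ w ∈ W, a * w * a ∈ W)
    (hCa : N ⊓ Subgroup.centralizer {a} ≤ W) (hCb : N ⊓ Subgroup.centralizer {b} ≤ W)
    (hCab : N ⊓ Subgroup.centralizer {a * b} ≤ W) {x : G} (hx : x ∈ N) : x ∈ W := by
  -- Step A
  have stepA : ∀ t : G, t * t = 1 → (∀ n ∈ N, t * n * t ∈ N) →
      N ⊓ Subgroup.centralizer {t} ≤ W → (t * x * t) * x ∈ W := by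
    intro t ht htN hCt
    have hyN : x⁻¹ * t * x * t ∈ N := by
      have : x⁻¹ * t * x * t = x⁻¹ * (t * x * t) := by group
      rw [this]; exact N.mul_mem (N.inv_mem hx) (htN x hx)
    have hodd : Odd (orderOf (x⁻¹ * t * x * t)) := hN.of_dvd_nat (N.orderOf_dvd_natCard hyN)
    obtain ⟨s, hs, h1, h2⟩ := invol_decomp ht hodd
    have hsN : s ∈ N := (Subgroup.zpowers_le.mpr hyN) hs
    have hcN : x * s ∈ N := N.mul_mem hx hsN
    have hcW : x * s ∈ W := by
      apply hCt
      refine Subgroup.mem_inf.mpr ⟨hcN, ?_⟩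
      rw [mem_centralizer_singleton]
      calc t * (x * s) = t * (x * s) * (t * t) := by rw [ht, mul_one]
        _ = (t * (x * s) * t) * t := by group
        _ = x * s * t := by rw [h1]
    have h3 : t * x * t = (x * s) * s := by
      have h4 : t * s⁻¹ * t = s := by
        have : t * s⁻¹ * t = (t⁻¹ * s * t⁻¹)⁻¹ := by group
        rw [this, inv_eq_self_of_mul_self ht, h2, inv_inv]
      calc t * x * t = (t * (x * s) * t) * (t⁻¹ * s⁻¹ * t) := by group
        _ = (x * s) * s := by rw [h1, inv_eq_self_of_mul_self ht, h4]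
    have h5 : (t * x * t) * x = (x * s) * (s * (x * s) * s⁻¹) := by
      rw [h3]; group
    rw [h5]
    exact W.mul_mem hcW (hnorm s hsN _ hcW)
  have hw1 := stepA a ha haN hCa
  have hw2 := stepA b hb hbN hCb
  -- Step B
  have hab2 : (a * b) * (a * b) = 1 := by
    calc (a * b) * (a * b) = a * (b * a) * b := by group
      _ = a * (a * b) * b := by rw [hab]
      _ = (a * a) * (b * b) := by group
      _ = 1 := by rw [ha, hb, one_mul]
  have hy3 : x⁻¹ * (a * b) * x * (a * b) ∈ W := by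
    have e : x⁻¹ * (a * b) * x * (a * b)
        = (x⁻¹ * (a * ((b * x * b) * x) * a) * x⁻¹⁻¹) * ((a * x * a) * x)⁻¹ := by
      have hai : a⁻¹ = a := inv_eq_self_of_mul_self ha
      have : ((a * x * a) * x)⁻¹ = x⁻¹ * a * x⁻¹ * a := by
        have : ((a * x * a) * x)⁻¹ = x⁻¹ * a⁻¹ * x⁻¹ * a⁻¹ := by group
        rw [this, hai]
      rw [this]
      have e2 : x⁻¹ * (a * (b * x * b * x) * a) * x⁻¹⁻¹ * (x⁻¹ * a * x⁻¹ * a)
          = x⁻¹ * a * b * x * b * (x * (a * a) * x⁻¹) * a := by group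
      rw [e2, ha]
      have e3 : x⁻¹ * a * b * x * b * (x * 1 * x⁻¹) * a = x⁻¹ * (a * b) * x * (b * a) := by group
      rw [e3, hab]
    rw [e]
    refine W.mul_mem (hnorm _ (N.inv_mem hx) _ (haW _ hw2)) (W.inv_mem hw1)
  -- Step C
  have hodd3 : Odd (orderOf (x⁻¹ * (a * b) * x * (a * b))) :=
    hN.of_dvd_nat (N.orderOf_dvd_natCard (hWN hy3))
  obtain ⟨s, hs, h1, _⟩ := invol_decomp hab2 hodd3
  have hsW : s ∈ W := (Subgroup.zpowers_le.mpr hy3) hs
  have hcW : x * s ∈ W := by
    apply hCab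
    refine Subgroup.mem_inf.mpr ⟨N.mul_mem hx (hWN hsW), ?_⟩
    rw [mem_centralizer_singleton]
    calc (a * b) * (x * s) = (a * b) * (x * s) * ((a * b) * (a * b)) := by rw [hab2, mul_one]
      _ = ((a * b) * (x * s) * (a * b)) * (a * b) := by group
      _ = x * s * (a * b) := by rw [h1]
  have : x = (x * s) * s⁻¹ := by group
  rw [this]
  exact W.mul_mem hcW (W.inv_mem hsW)

theorem le_gen3_of_nilpotent [Finite G] (H : Subgroup G) (hodd : Odd (Nat.card H))
    (hnil : Group.IsNilpotent H) {a b : G} (ha : a * a = 1) (hb : b * b = 1)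
    (hab : a * b = b * a) (haH : ∀ h ∈ H, a * h * a ∈ H) (hbH : ∀ h ∈ H, b * h * b ∈ H) :
    H ≤ gen3 H a b := by
  by_contra hne
  have hlt : (gen3 H a b).subgroupOf H < ⊤ :=
    lt_top_iff_ne_top.mpr (fun h => hne (Subgroup.subgroupOf_eq_top.mp h))
  have hnc := (Group.normalizerCondition_of_isNilpotent (G := ↥H)) _ hlt
  obtain ⟨x', hx'n, hx'W⟩ := SetLike.exists_of_lt hnc
  apply hx'W
  rw [Subgroup.mem_subgroupOf]
  have hai : a⁻¹ = a := inv_eq_self_of_mul_self ha
  have hbi : b⁻¹ = b := inv_eq_self_of_mul_self hb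
  have haH' : ∀ h ∈ H, a * h * a⁻¹ ∈ H := by rw [hai]; exact haH
  have hbH' : ∀ h ∈ H, b * h * b⁻¹ ∈ H := by rw [hbi]; exact hbH
  have haW : ∀ w ∈ gen3 H a b, a * w * a ∈ gen3 H a b := fun w hw => by
    have := conj_mem_gen3 haH' rfl hab hw
    rwa [hai] at this
  have haW' : ∀ w, a * w * a ∈ gen3 H a b → w ∈ gen3 H a b := fun w hw => by
    have h1 := haW _ hw
    have h2 : a * (a * w * a) * a = (a * a) * w * (a * a) := by group
    rwa [h2, ha, one_mul, mul_one] at h1
  have hx1 : ∀ g : G, g ∈ gen3 H a b ↔ (x' : G) * g * (x' : G)⁻¹ ∈ gen3 H a b := by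
    intro g
    have h1 := Subgroup.mem_normalizer_iff.mp hx'n
    constructor
    · intro hg
      have hgH : g ∈ H := gen3_le H a b hg
      have h2 := (h1 ⟨g, hgH⟩).mp (Subgroup.mem_subgroupOf.mpr hg)
      exact Subgroup.mem_subgroupOf.mp h2
    · intro hg
      have hgH : g ∈ H := by
        have h2 : (x' : G) * g * (x' : G)⁻¹ ∈ H := gen3_le H a b hg
        have h3 : g = (x' : G)⁻¹ * ((x' : G) * g * (x' : G)⁻¹) * (x' : G) := by group
        rw [h3]; exact H.mul_mem (H.mul_mem (H.inv_mem x'.2) h2) x'.2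
      have h2 := (h1 ⟨g, hgH⟩).mpr (Subgroup.mem_subgroupOf.mpr hg)
      exact Subgroup.mem_subgroupOf.mp h2
  have hxN : (x' : G) ∈ H ⊓ Subgroup.normalizer (gen3 H a b : Set G) :=
    Subgroup.mem_inf.mpr ⟨x'.2, Subgroup.mem_normalizer_iff.mpr hx1⟩
  have hconjN : ∀ t : G, t * t = 1 → (∀ h ∈ H, t * h * t ∈ H) →
      (∀ w ∈ gen3 H a b, t * w * t ∈ gen3 H a b) →
      ∀ n ∈ H ⊓ Subgroup.normalizer (gen3 H a b : Set G),
        t * n * t ∈ H ⊓ Subgroup.normalizer (gen3 H a b : Set G) := by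
    intro t ht htH htW n hn
    have htW' : ∀ w, t * w * t ∈ gen3 H a b → w ∈ gen3 H a b := fun w hw => by
      have h1 := htW _ hw
      have h2 : t * (t * w * t) * t = (t * t) * w * (t * t) := by group
      rwa [h2, ht, one_mul, mul_one] at h1
    have hti : t⁻¹ = t := inv_eq_self_of_mul_self ht
    refine Subgroup.mem_inf.mpr ⟨htH n (Subgroup.mem_inf.mp hn).1, ?_⟩
    rw [Subgroup.mem_normalizer_iff]
    intro g
    have hn2 := Subgroup.mem_normalizer_iff.mp (Subgroup.mem_inf.mp hn).2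
    have e : t * n * t * g * (t * n * t)⁻¹ = t * (n * (t * g * t) * n⁻¹) * t := by
      have : (t * n * t)⁻¹ = t⁻¹ * n⁻¹ * t⁻¹ := by group
      rw [this, hti]; group
    rw [e]
    constructor
    · intro hg
      exact htW _ ((hn2 _).mp (htW _ hg))
    · intro hg
      exact htW' _ ((hn2 _).mpr (htW' _ hg))
  have hbW : ∀ w ∈ gen3 H a b, b * w * b ∈ gen3 H a b := fun w hw => by
    have := conj_mem_gen3 hbH' hab.symm rfl hw
    rwa [hbi] at this
  have hNH : H ⊓ Subgroup.normalizer (gen3 H a b : Set G) ≤ H := inf_le_left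
  refine mem_of_normalizes (N := H ⊓ Subgroup.normalizer (gen3 H a b : Set G))
    (hodd.of_dvd_nat (Subgroup.card_dvd_of_le hNH)) ha hb hab
    (le_inf (gen3_le H a b) Subgroup.le_normalizer) ?_ (hconjN a ha haH haW) (hconjN b hb hbH hbW)
    haW ?_ ?_ ?_ hxN
  · intro n hn w hw
    exact (Subgroup.mem_normalizer_iff.mp (Subgroup.mem_inf.mp hn).2 w).mp hw
  · exact (inf_le_inf_right _ hNH).trans (inf_centralizer_le_gen3_left H a b)
  · exact (inf_le_inf_right _ hNH).trans (inf_centralizer_le_gen3_right H a b)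
  · exact (inf_le_inf_right _ hNH).trans (inf_centralizer_le_gen3_mul H a b)

theorem exists_invariant_sylow [Finite G] (K : Subgroup G) [K.Normal] (hodd : Odd (Nat.card K))
    {a b : G} (ha : a * a = 1) (hb : b * b = 1) (hab : a * b = b * a) (p : ℕ) [Fact p.Prime] :
    ∃ P : Sylow p K,
      (∀ x ∈ (P : Subgroup K).map K.subtype, a * x * a ∈ (P : Subgroup K).map K.subtype) ∧
      (∀ x ∈ (P : Subgroup K).map K.subtype, b * x * b ∈ (P : Subgroup K).map K.subtype) := by
  classical
  have hcomm : ∀ x ∈ ({a, b} : Set G), ∀ y ∈ ({a, b} : Set G), x * y = y * x := by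
    intro x hx y hy
    rcases hx with rfl | rfl <;> rcases hy with rfl | rfl
    · rfl
    · exact hab
    · exact hab.symm
    · rfl
  have hc : IsMulCommutative ↥(Subgroup.closure ({a, b} : Set G)) :=
    Subgroup.isMulCommutative_closure hcomm
  have hEc : ∀ x ∈ Subgroup.closure ({a, b} : Set G), ∀ y ∈ Subgroup.closure ({a, b} : Set G),
      x * y = y * x := by
    intro x hx y hy
    have := hc.is_comm.comm ⟨x, hx⟩ ⟨y, hy⟩
    exact congrArg Subtype.val this
  have hEsq : ∀ x ∈ Subgroup.closure ({a, b} : Set G), x * x = 1 := by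
    intro x hx
    induction hx using Subgroup.closure_induction with
    | mem x hx =>
      rcases hx with rfl | rfl
      · exact ha
      · exact hb
    | one => simp
    | mul x y hx hy ihx ihy =>
      calc x * y * (x * y) = x * (y * x) * y := by group
        _ = x * (x * y) * y := by rw [hEc y hy x hx]
        _ = (x * x) * (y * y) := by group
        _ = 1 := by rw [ihx, ihy, one_mul]
    | inv x hx ih =>
      have : x⁻¹ = x := inv_eq_self_of_mul_self ih
      rw [this, ih]
  have h2 : Fact (Nat.Prime 2) := ⟨Nat.prime_two⟩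
  have hE2 : IsPGroup 2 ↥(Subgroup.closure ({a, b} : Set G)) := by
    intro g
    refine ⟨1, ?_⟩
    apply Subtype.ext
    have := hEsq g g.2
    simpa [pow_two] using this
  letI : MulDistribMulAction ↥(Subgroup.closure ({a, b} : Set G)) ↥K :=
    MulDistribMulAction.compHom ↥K
      ((MulAut.conjNormal (H := K)).comp (Subgroup.closure ({a, b} : Set G)).subtype)
  have hnd : ¬ 2 ∣ Nat.card (Sylow p ↥K) := by
    intro hdvd
    have P0 : Sylow p ↥K := default
    have h1 : Nat.card (Sylow p ↥K) ∣ Nat.card ↥K :=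
      (Sylow.card_dvd_index P0).trans (Subgroup.index_dvd_card _)
    exact (Nat.not_even_iff_odd.mpr hodd) (even_iff_two_dvd.mpr (hdvd.trans h1))
  obtain ⟨P, hP⟩ := hE2.nonempty_fixed_point_of_prime_not_dvd_card (Sylow p ↥K) hnd
  have key : ∀ t : G, ∀ ht : t ∈ Subgroup.closure ({a, b} : Set G), t * t = 1 →
      ∀ x ∈ (P : Subgroup K).map K.subtype, t * x * t ∈ (P : Subgroup K).map K.subtype := by
    intro t ht htt x hx
    obtain ⟨k, hk, rfl⟩ := hx
    have h1 : (⟨t, ht⟩ : ↥(Subgroup.closure ({a, b} : Set G))) • P = P := hP ⟨t, ht⟩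
    have h3 := Subgroup.smul_mem_pointwise_smul k
      (⟨t, ht⟩ : ↥(Subgroup.closure ({a, b} : Set G))) (P : Subgroup K) hk
    rw [← Sylow.pointwise_smul_def, h1] at h3
    refine ⟨_, h3, ?_⟩
    have h4 : (((⟨t, ht⟩ : ↥(Subgroup.closure ({a, b} : Set G))) • k : ↥K) : G) = t * k * t⁻¹ :=
      MulAut.conjNormal_apply t k
    rw [inv_eq_self_of_mul_self htt] at h4
    exact h4
  exact ⟨P, key a (Subgroup.subset_closure (by simp)) ha,
    key b (Subgroup.subset_closure (by simp)) hb⟩

theorem le_gen3_of_normal [Finite G] (K : Subgroup G) [K.Normal] (hodd : Odd (Nat.card K))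
    {a b : G} (ha : a * a = 1) (hb : b * b = 1) (hab : a * b = b * a) : K ≤ gen3 K a b := by
  have hle := gen3_le K a b
  have hcard : Nat.card K ∣ Nat.card (gen3 K a b) := by
    rw [← Nat.factorization_prime_le_iff_dvd (Nat.card_pos.ne') (Nat.card_pos.ne')]
    intro p hp
    have : Fact p.Prime := ⟨hp⟩
    obtain ⟨P, hPa, hPb⟩ := exists_invariant_sylow K hodd ha hb hab p
    have hHK : (P : Subgroup K).map K.subtype ≤ K := Subgroup.map_subtype_le _
    have hcardH : Nat.card ((P : Subgroup K).map K.subtype) = p ^ (Nat.card K).factorization p := by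
      rw [Subgroup.card_map_of_injective K.subtype_injective, Sylow.card_eq_multiplicity]
    have hHodd : Odd (Nat.card ((P : Subgroup K).map K.subtype)) :=
      hodd.of_dvd_nat (Subgroup.card_dvd_of_le hHK)
    have hHnil : Group.IsNilpotent ((P : Subgroup K).map K.subtype) :=
      (IsPGroup.of_card hcardH).isNilpotent
    have h1 := le_gen3_of_nilpotent _ hHodd hHnil ha hb hab hPa hPb
    have h2 : (P : Subgroup K).map K.subtype ≤ gen3 K a b := h1.trans (gen3_mono hHK a b)
    have h3 := Subgroup.card_dvd_of_le h2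
    rw [hcardH] at h3
    exact (Nat.Prime.pow_dvd_iff_le_factorization hp (Nat.card_pos.ne')).mp h3
  exact (Subgroup.eq_of_le_of_card_ge hle (Nat.le_of_dvd Nat.card_pos hcard)).ge

/-- **Generation by centralizers for a four-group acting on a group of odd order.**
If commuting elements `a`, `b` with `a² = b² = 1` normalize the odd order subgroup `K`,
then `K` is generated by its centralizers of `a`, `b` and `a * b`. -/
theorem le_gen3 [Finite G] (K : Subgroup G) (hodd : Odd (Nat.card K)) {a b : G}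
    (ha : a * a = 1) (hb : b * b = 1) (hab : a * b = b * a)
    (haK : a ∈ Subgroup.normalizer (K : Set G)) (hbK : b ∈ Subgroup.normalizer (K : Set G)) :
    K ≤ gen3 K a b := by
  have hKN : K ≤ Subgroup.normalizer (K : Set G) := Subgroup.le_normalizer
  have hn : (K.subgroupOf (Subgroup.normalizer (K : Set G))).Normal := Subgroup.normal_in_normalizer
  have hcard : Nat.card (K.subgroupOf (Subgroup.normalizer (K : Set G))) = Nat.card K :=
    Nat.card_congr (Subgroup.subgroupOfEquivOfLe hKN).toEquiv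
  have h := le_gen3_of_normal (K.subgroupOf (Subgroup.normalizer (K : Set G))) (hcard ▸ hodd)
    (a := ⟨a, haK⟩) (b := ⟨b, hbK⟩) (Subtype.ext ha) (Subtype.ext hb) (Subtype.ext hab)
  have h3 : (gen3 (K.subgroupOf (Subgroup.normalizer (K : Set G))) ⟨a, haK⟩ ⟨b, hbK⟩).map
      (Subgroup.normalizer (K : Set G)).subtype ≤ gen3 K a b := by
    rw [gen3, Subgroup.map_sup, Subgroup.map_sup]
    refine sup_le_sup (sup_le_sup ?_ ?_) ?_
    all_goals
      rintro _ ⟨y, hy, rfl⟩
      refine Subgroup.mem_inf.mpr ⟨Subgroup.mem_subgroupOf.mp (Subgroup.mem_inf.mp hy).1, ?_⟩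
      have h5 := mem_centralizer_singleton.mp (Subgroup.mem_inf.mp hy).2
      exact mem_centralizer_singleton.mpr (congrArg Subtype.val h5)
  intro k hk
  have hk' : (⟨k, hKN hk⟩ : Subgroup.normalizer (K : Set G)) ∈
      K.subgroupOf (Subgroup.normalizer (K : Set G)) := Subgroup.mem_subgroupOf.mpr hk
  exact h3 ⟨_, h hk', rfl⟩

end Cfsg.Agent.Lib.Helper92
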