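import Mathlib
import Cfsg.Prelude.Def_MonsterType
import Cfsg.Agent.Lib.Helper92.FourGroup

set_option autoImplicit false

namespace Cfsg.Agent.Lib.Helper92

open scoped commutatorElement

variable {G : Type*} [Group G]

theorem pCore_isPGroup (p : ℕ) [Fact p.Prime] : IsPGroup p (Cfsg.pCore p G) := by
  have H' := Classical.arbitrary (Sylow p G)
  refine H'.isPGroup'.to_le (sSup_le ?_)
  rintro N ⟨hN, hp⟩
  have := hN
  exact hp.le_sylow_of_normal H'

theorem card_two_pow [Finite G] {H : Subgroup G} (h : IsPGroup 2 H) :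
    ∃ n : ℕ, Nat.card H = 2 ^ n := by
  have : Fact (Nat.Prime 2) := ⟨Nat.prime_two⟩
  exact (IsPGroup.iff_card.mp h)

theorem inf_eq_bot_of_odd_of_two [Finite G] {K T : Subgroup G}
    (hK : Odd (Nat.card K)) (hT : IsPGroup 2 T) : K ⊓ T = ⊥ := by
  obtain ⟨n, hn⟩ := card_two_pow hT
  apply disjoint_iff.mp
  apply Subgroup.disjoint_of_coprime_natCard
  rw [hn]
  exact Nat.Coprime.pow_right n (Nat.coprime_two_right.mpr hK)

/-- An element `k` of an odd order subgroup `K` commutes with an element `z` of a `2`-subgroup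
`T` when `z` normalizes `K` and `k` normalizes `T`. -/
theorem commute_of_odd_of_two [Finite G] {K T : Subgroup G} (hK : Odd (Nat.card K))
    (hT : IsPGroup 2 T) {k z : G} (hk : k ∈ K) (hz : z ∈ T) (hzK : z * k⁻¹ * z⁻¹ ∈ K)
    (hkT : k * z * k⁻¹ ∈ T) : k * z = z * k := by
  have h1 : k * z * k⁻¹ * z⁻¹ ∈ K ⊓ T := by
    refine Subgroup.mem_inf.mpr ⟨?_, T.mul_mem hkT (T.inv_mem hz)⟩
    have h3 : k * z * k⁻¹ * z⁻¹ = k * (z * k⁻¹ * z⁻¹) := by group
    rw [h3]
    exact K.mul_mem hk hzK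
  rw [inf_eq_bot_of_odd_of_two hK hT, Subgroup.mem_bot] at h1
  have h5 : k * z = (k * z * k⁻¹ * z⁻¹) * (z * k) := by group
  rw [h5, h1, one_mul]

theorem largeness [Finite G] (Q : Subgroup G)
    (hQ2 : IsPGroup 2 ↥Q)
    (hL2 : Subgroup.centralizer (Q : Set G) = ((Subgroup.center ↥Q).map Q.subtype))
    (hL3 : Subgroup.centralizer (((Subgroup.center ↥Q).map Q.subtype) : Set G) ≤
      Subgroup.normalizer (Q : Set G))
    (K : Subgroup G) (hK : Odd (Nat.card K)) (hQK : Q ≤ Subgroup.normalizer (K : Set G))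
    (hKZ : K ≤ Subgroup.centralizer (((Subgroup.center ↥Q).map Q.subtype) : Set G)) : K = ⊥ := by
  have hKQ : K ⊓ Q = ⊥ := inf_eq_bot_of_odd_of_two hK hQ2
  have hKN : K ≤ Subgroup.normalizer (Q : Set G) := hKZ.trans hL3
  have hKC : K ≤ Subgroup.centralizer (Q : Set G) := by
    intro k hk
    rw [Subgroup.mem_centralizer_iff]
    intro q hq
    have hq' : q ∈ Q := hq
    have h2 : q * k⁻¹ * q⁻¹ ∈ K :=
      ((Subgroup.mem_normalizer_iff.mp (hQK hq')) k⁻¹).mp (K.inv_mem hk)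
    have h3 : k * q * k⁻¹ ∈ Q := ((Subgroup.mem_normalizer_iff.mp (hKN hk)) q).mp hq'
    exact (commute_of_odd_of_two hK hQ2 hk hq' h2 h3).symm
  rw [hL2] at hKC
  have hKleQ : K ≤ Q := hKC.trans (Subgroup.map_subtype_le _)
  rw [← hKQ]
  exact (inf_eq_left.mpr hKleQ).symm

/-- The centre of an extraspecial `2`-subgroup `Q`, as a subgroup of `G`, is `{1, z}`. -/
theorem extraspecial_center_gen (Q : Subgroup G) (h : Cfsg.IsExtraspecial 2 ↥Q) :
    ∃ z : G, z ∈ (Subgroup.center ↥Q).map Q.subtype ∧ z ≠ 1 ∧ z * z = 1 ∧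
      (∀ x ∈ (Subgroup.center ↥Q).map Q.subtype, x = 1 ∨ x = z) ∧
      (∀ q ∈ Q, q * z = z * q) := by
  have hcard : Nat.card (Subgroup.center ↥Q) = 2 := h.2
  obtain ⟨c, hc1, hc2⟩ := (Nat.card_eq_two_iff' (1 : Subgroup.center ↥Q)).mp hcard
  have hcc : c * c = 1 := by
    by_contra hne
    have := hc2 (c * c) hne
    exact hc1 (by simpa using this)
  refine ⟨((c : ↥Q) : G), ⟨(c : ↥Q), c.2, rfl⟩, ?_, ?_, ?_, ?_⟩
  · intro h1
    apply hc1
    apply Subtype.ext
    apply Subtype.ext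
    exact h1
  · have := congrArg (fun x : Subgroup.center ↥Q => ((x : ↥Q) : G)) hcc
    simpa using this
  · rintro x ⟨y, hy, rfl⟩
    by_cases hy1 : (⟨y, hy⟩ : Subgroup.center ↥Q) = 1
    · left
      have := congrArg (fun x : Subgroup.center ↥Q => ((x : ↥Q) : G)) hy1
      simpa using this
    · right
      have := congrArg (fun x : Subgroup.center ↥Q => ((x : ↥Q) : G)) (hc2 _ hy1)
      simpa using this
  · intro q hq
    have := Subgroup.mem_center_iff.mp c.2 ⟨q, hq⟩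
    exact congrArg Subtype.val this

theorem extraspecial_comm_mem (Q : Subgroup G) (h : Cfsg.IsExtraspecial 2 ↥Q) {q r : G}
    (hq : q ∈ Q) (hr : r ∈ Q) : q * r * q⁻¹ * r⁻¹ ∈ (Subgroup.center ↥Q).map Q.subtype := by
  have hcomm : commutator ↥Q = Subgroup.center ↥Q := h.1.2.2
  have h1 : ⁅(⟨q, hq⟩ : ↥Q), (⟨r, hr⟩ : ↥Q)⁆ ∈ Subgroup.center ↥Q := by
    rw [← hcomm, commutator_def]
    exact Subgroup.commutator_mem_commutator (Subgroup.mem_top _) (Subgroup.mem_top _)
  refine ⟨_, h1, ?_⟩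
  simp [commutatorElement_def]

/-- A non-central element `b` of an extraspecial `2`-subgroup is conjugate in it to `b * z`. -/
theorem extraspecial_conj (Q : Subgroup G) (h : Cfsg.IsExtraspecial 2 ↥Q) {z : G}
    (hz1 : ∀ x ∈ (Subgroup.center ↥Q).map Q.subtype, x = 1 ∨ x = z)
    (hzc : ∀ q ∈ Q, q * z = z * q)
    {b : G} (hbQ : b ∈ Q) (hbZ : b ∉ (Subgroup.center ↥Q).map Q.subtype) :
    ∃ q ∈ Q, q * b * q⁻¹ = b * z := by
  have h1 : (⟨b, hbQ⟩ : ↥Q) ∉ Subgroup.center ↥Q := by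
    intro hb
    exact hbZ ⟨_, hb, rfl⟩
  rw [Subgroup.mem_center_iff] at h1
  push Not at h1
  obtain ⟨q, hq⟩ := h1
  refine ⟨q, q.2, ?_⟩
  have h2 := extraspecial_comm_mem Q h q.2 hbQ
  rcases hz1 _ h2 with h3 | h3
  · exfalso
    apply hq
    apply Subtype.ext
    show (q : G) * b = b * q
    have : (q : G) * b = ((q : G) * b * (q : G)⁻¹ * b⁻¹) * (b * q) := by group
    rw [this, h3, one_mul]
  · have : (q : G) * b * (q : G)⁻¹ = ((q : G) * b * (q : G)⁻¹ * b⁻¹) * b := by group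
    rw [this, h3, hzc b hbQ]

/-- If `Q` is an extraspecial `2`-subgroup normalizing the odd order subgroup `K`, and the
centralizer in `K` of some non-central involution `b` of `Q` centralizes the centre of `Q`,
then `K` centralizes the centre of `Q`. -/
theorem odd_le_centralizer_center [Finite G] (Q : Subgroup G) (hL1 : Cfsg.IsExtraspecial 2 ↥Q)
    {b : G} (hbQ : b ∈ Q) (hbZ : b ∉ (Subgroup.center ↥Q).map Q.subtype) (hbb : b * b = 1)
    (K : Subgroup G) (hK : Odd (Nat.card K)) (hQK : Q ≤ Subgroup.normalizer (K : Set G))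
    (hb : ∀ k ∈ K, b * k = k * b → ∀ z ∈ (Subgroup.center ↥Q).map Q.subtype, z * k = k * z) :
    K ≤ Subgroup.centralizer (((Subgroup.center ↥Q).map Q.subtype) : Set G) := by
  obtain ⟨z, hzZ, hz1, hzz, hzall, hzc⟩ := extraspecial_center_gen Q hL1
  have hzQ : z ∈ Q := Subgroup.map_subtype_le _ hzZ
  have hbz : b * z = z * b := hzc b hbQ
  have h1 := le_gen3 K hK hbb hzz hbz (hQK hbQ) (hQK hzQ)
  refine h1.trans ?_
  have hcz : ∀ k : G, z * k = k * z →
      k ∈ Subgroup.centralizer (((Subgroup.center ↥Q).map Q.subtype) : Set G) := by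
    intro k hk
    rw [Subgroup.mem_centralizer_iff]
    intro x hx
    rcases hzall x hx with rfl | rfl
    · simp
    · exact hk
  refine sup_le (sup_le ?_ ?_) ?_
  · intro k hk
    have hk1 := (Subgroup.mem_inf.mp hk).1
    have hk2 := mem_centralizer_singleton.mp (Subgroup.mem_inf.mp hk).2
    exact hcz k (hb k hk1 hk2 z hzZ)
  · intro k hk
    exact hcz k (mem_centralizer_singleton.mp (Subgroup.mem_inf.mp hk).2)
  · intro k hk
    have hk1 := (Subgroup.mem_inf.mp hk).1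
    have hk2 : (b * z) * k = k * (b * z) := mem_centralizer_singleton.mp (Subgroup.mem_inf.mp hk).2
    obtain ⟨q, hqQ, hq⟩ := extraspecial_conj Q hL1 hzall hzc hbQ hbZ
    have hk' : q⁻¹ * k * q ∈ K := by
      have := (Subgroup.mem_normalizer_iff.mp (hQK (Q.inv_mem hqQ)) k).mp hk1
      simpa using this
    have hcomm : b * (q⁻¹ * k * q) = (q⁻¹ * k * q) * b := by
      have e1 : b = q⁻¹ * (b * z) * q := by rw [← hq]; group
      calc b * (q⁻¹ * k * q) = (q⁻¹ * (b * z) * q) * (q⁻¹ * k * q) := by rw [← e1]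
        _ = q⁻¹ * ((b * z) * k) * q := by group
        _ = q⁻¹ * (k * (b * z)) * q := by rw [hk2]
        _ = (q⁻¹ * k * q) * (q⁻¹ * (b * z) * q) := by group
        _ = (q⁻¹ * k * q) * b := by rw [← e1]
    have h2 := hb _ hk' hcomm z hzZ
    apply hcz
    have hzq : q * z = z * q := hzc q hqQ
    have hzq' : z * q⁻¹ = q⁻¹ * z := by
      have : q⁻¹ * (q * z) * q⁻¹ = q⁻¹ * (z * q) * q⁻¹ := by rw [hzq]
      simpa [mul_assoc] using this
    calc z * k = q * (z * (q⁻¹ * k * q)) * q⁻¹ := by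
          rw [← mul_assoc z, ← mul_assoc z, hzq']; group
      _ = q * ((q⁻¹ * k * q) * z) * q⁻¹ := by rw [h2]
      _ = k * (q * z) * q⁻¹ := by group
      _ = k * z := by rw [hzq]; group

end Cfsg.Agent.Lib.Helper92
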