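import Cfsg.Agent.Lib.Helper22.PTDefs
import Cfsg.Agent.Lib.Helper22.PTAux

/-! Project PT (S4705, architect helper22), piece SING (helper92): the sum of a class function over
the `p`-singular elements, by double counting the triples `(x, t, c)` with
`g = x (z ^ t c) x⁻¹`. -/

set_option autoImplicit false

namespace Cfsg.Agent.Lib.Helper92.PT

open Cfsg Cfsg.Agent.Lib.Helper22.BFD Cfsg.Agent.Lib.Helper22.PT
open scoped ComplexConjugate

universe u

section leaves

variable {G : Type u} [Group G] [Fintype G]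

open Classical in
/-- the number of `x` with `x a x⁻¹ = g` -/
noncomputable def sing_N (a g : G) : ℂ := ∑ x : G, if x * a * x⁻¹ = g then 1 else 0

open Classical in
/-- the indicator of the `p`-singular elements -/
noncomputable def sing_ind (p : ℕ) (g : G) : ℂ := if p ∣ orderOf g then 1 else 0

open Classical in
/-- the indicator of the parameters `(t, c)`, `t ≠ 0`, `c` central -/
noncomputable def sing_T (p : ℕ) (τ : ZMod p × G) : ℂ :=
  if τ.1 ≠ 0 ∧ τ.2 ∈ Subgroup.center G then 1 else 0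

theorem sing_T_pos (p : ℕ) (t : ZMod p) (c : G) (ht : t ≠ 0) (hc : c ∈ Subgroup.center G) :
    sing_T p (t, c) = 1 := by
  unfold sing_T
  exact if_pos ⟨ht, hc⟩

theorem sing_T_neg (p : ℕ) (t : ZMod p) (c : G) (hT : ¬ (t ≠ 0 ∧ c ∈ Subgroup.center G)) :
    sing_T p (t, c) = 0 := by
  unfold sing_T
  exact if_neg hT

theorem sing_N_eq (a g b k : G) (e : G ≃ G)
    (h : ∀ x, (x * a * x⁻¹ = g) ↔ (e x * b * (e x)⁻¹ = k)) : sing_N a g = sing_N b k := by
  unfold sing_N
  refine Fintype.sum_equiv e _ _ (fun x => ?_)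
  by_cases hx : x * a * x⁻¹ = g
  · rw [if_pos hx, if_pos ((h x).mp hx)]
  · rw [if_neg hx, if_neg (fun h' => hx ((h x).mpr h'))]

theorem sing_N_zero (a g : G) (h : ∀ x, x * a * x⁻¹ ≠ g) : sing_N a g = 0 := by
  unfold sing_N
  apply Finset.sum_eq_zero
  intro x _
  rw [if_neg (h x)]

theorem sing_N_sum (a : G) (F : G → ℂ) :
    ∑ g : G, sing_N a g * F g = ∑ x : G, F (x * a * x⁻¹) := by
  classical
  unfold sing_N
  simp only [Finset.sum_mul]
  rw [Finset.sum_comm]
  apply Finset.sum_congr rfl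
  intro x _
  simp [ite_mul]

theorem sing_N_self (z : G) :
    sing_N z z = (Nat.card (Subgroup.centralizer ({z} : Set G)) : ℂ) := by
  classical
  unfold sing_N
  rw [Finset.sum_boole]
  congr 1
  rw [Nat.card_eq_fintype_card]
  symm
  apply Fintype.card_of_subtype
  intro x
  rw [Finset.mem_filter]
  simp only [Finset.mem_univ, true_and]
  rw [Subgroup.mem_centralizer_singleton_iff]
  exact mul_inv_eq_iff_eq_mul

omit [Fintype G] in
theorem sing_grp1 (x₀ x m a : G) : (x₀⁻¹ * x * m) * a * (x₀⁻¹ * x * m)⁻¹ =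
    x₀⁻¹ * (x * (m * a * m⁻¹) * x⁻¹) * x₀ := by group

omit [Fintype G] in
theorem sing_grp2 (x₀ a : G) : x₀⁻¹ * (x₀ * a * x₀⁻¹) * x₀ = a := by group

omit [Fintype G] in
theorem sing_grp3 (x₀ x m a : G) : x * (m * a * m⁻¹) * x⁻¹ =
    x₀ * ((x₀⁻¹ * x * m) * a * (x₀⁻¹ * x * m)⁻¹) * x₀⁻¹ := by group

omit [Fintype G] in
theorem sing_conj_central (y w c : G) (hc : c ∈ Subgroup.center G) :
    y * (w * c) * y⁻¹ = y * w * y⁻¹ * c := by
  have h1 : y⁻¹ * c = c * y⁻¹ := Subgroup.mem_center_iff.mp hc y⁻¹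
  rw [mul_assoc (y * w) y⁻¹ c, h1]
  simp only [mul_assoc]

theorem sing_inv_pow (p : ℕ) [Fact p.Prime] (z : G) (hz : orderOf z = p) (t₀ : ZMod p)
    (ht₀ : t₀ ≠ 0) : z ^ (t₀.val * (t₀⁻¹).val) = z := by
  have hp : p.Prime := Fact.out
  have : NeZero p := ⟨hp.ne_zero⟩
  conv_rhs => rw [← pow_one z]
  apply aux_pow_congr p z hz
  push_cast
  rw [ZMod.natCast_rightInverse t₀, ZMod.natCast_rightInverse t₀⁻¹, mul_inv_cancel₀ ht₀]

theorem sing_neg_ne (p : ℕ) [Fact p.Prime] (hp5 : 5 < p) (t : ZMod p) (ht : t = -t) : t = 0 := by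
  have h2 : (2 : ZMod p) * t = 0 := by
    have h1 : t + t = 0 := by
      nth_rewrite 2 [ht]
      exact add_neg_cancel t
    rw [two_mul]
    exact h1
  rcases mul_eq_zero.mp h2 with h3 | h3
  · exfalso
    have h4 : ((2 : ℕ) : ZMod p) = 0 := by exact_mod_cast h3
    rw [ZMod.natCast_eq_zero_iff] at h4
    have := Nat.le_of_dvd (by norm_num) h4
    omega
  · exact h3

/-- no central element of order `p` -/
theorem sing_no_central (p : ℕ) [Fact p.Prime] (z : G) (ζ : G → ℂ) (h : Hyp G p z ζ)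
    (hl : Loc G p z ζ) (d : G) (hd : d ∈ Subgroup.center G) (hdp : d ^ p = 1) : d = 1 := by
  by_contra hd1
  have hord : orderOf d = p := orderOf_eq_prime hdp hd1
  have h1 : p ∣ Nat.card (Subgroup.center G) := by
    rw [← hord]
    exact Subgroup.orderOf_dvd_natCard _ hd
  have h2 := ccard p z ζ h hl
  have h3 : Nat.card (Subgroup.centralizer ({z} : Set G)) ∣ Nat.card G :=
    Subgroup.card_subgroup_dvd_card _
  apply h.sq
  rw [h2] at h3
  obtain ⟨k, hk⟩ := h1
  rw [hk, ← mul_assoc, ← pow_two] at h3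
  exact (Dvd.intro _ rfl).trans h3

/-- `z ^ t c` is `p`-singular -/
theorem sing_singular (p : ℕ) [Fact p.Prime] (z : G) (ζ : G → ℂ) (h : Hyp G p z ζ)
    (t : ZMod p) (c : G) (ht : t ≠ 0) (hc : c ∈ Subgroup.center G) :
    p ∣ orderOf (z ^ t.val * c) := by
  have hp : p.Prime := Fact.out
  have : NeZero p := ⟨hp.ne_zero⟩
  have hcomm : Commute (z ^ t.val) c := Subgroup.mem_center_iff.mp hc (z ^ t.val)
  have hpow := hcomm.mul_pow (orderOf (z ^ t.val * c))
  rw [pow_orderOf_eq_one, ← pow_mul] at hpow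
  have hmem : z ^ (t.val * orderOf (z ^ t.val * c)) ∈ Subgroup.center G := by
    have e : z ^ (t.val * orderOf (z ^ t.val * c)) = (c ^ orderOf (z ^ t.val * c))⁻¹ :=
      eq_inv_of_mul_eq_one_left hpow.symm
    rw [e]
    exact Subgroup.inv_mem _ (Subgroup.pow_mem _ hc _)
  rw [aux_pow_congr p z h.ord (t.val * orderOf (z ^ t.val * c))
    (((t.val * orderOf (z ^ t.val * c) : ℕ) : ZMod p)).val
    (ZMod.natCast_rightInverse _).symm] at hmem
  by_contra hnd
  have hne : ((t.val * orderOf (z ^ t.val * c) : ℕ) : ZMod p) ≠ 0 := by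
    push_cast
    rw [ZMod.natCast_rightInverse t]
    intro h0
    rcases mul_eq_zero.mp h0 with h1 | h1
    · exact ht h1
    · exact hnd ((ZMod.natCast_eq_zero_iff _ _).mp h1)
  exact aux_znc p z ζ h _ hne hmem

/-- the centralizer of `z ^ t c` is the centralizer of `z` -/
theorem sing_cent_iff (p : ℕ) [Fact p.Prime] (z : G) (ζ : G → ℂ) (h : Hyp G p z ζ)
    (t₀ : ZMod p) (c₀ : G) (ht₀ : t₀ ≠ 0) (hc₀ : c₀ ∈ Subgroup.center G) (y : G) :
    y * (z ^ t₀.val * c₀) * y⁻¹ = z ^ t₀.val * c₀ ↔ y * z * y⁻¹ = z := by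
  rw [sing_conj_central y _ c₀ hc₀, mul_left_inj]
  constructor
  · intro h1
    have h3 : (y * z ^ t₀.val * y⁻¹) ^ (t₀⁻¹).val = (z ^ t₀.val) ^ (t₀⁻¹).val := by rw [h1]
    rw [conj_pow, ← pow_mul, sing_inv_pow p z h.ord t₀ ht₀] at h3
    exact h3
  · intro h1
    rw [← conj_pow, h1]

/-- conjugate parameters -/
theorem sing_conj_param (p : ℕ) [Fact p.Prime] (z : G) (ζ : G → ℂ) (h : Hyp G p z ζ)
    (hl : Loc G p z ζ) (t t₀ : ZMod p) (c c₀ y : G) (ht₀ : t₀ ≠ 0)
    (hc : c ∈ Subgroup.center G) (hc₀ : c₀ ∈ Subgroup.center G)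
    (hy : y * (z ^ t.val * c) * y⁻¹ = z ^ t₀.val * c₀) : c = c₀ ∧ (t = t₀ ∨ t = -t₀) := by
  have hp : p.Prime := Fact.out
  have : NeZero p := ⟨hp.ne_zero⟩
  have hzp : z ^ p = 1 := by
    rw [← h.ord]
    exact pow_orderOf_eq_one z
  rw [sing_conj_central y _ c hc] at hy
  have e1 : y * z ^ t.val * y⁻¹ = z ^ t₀.val * (c₀ * c⁻¹) := by
    rw [← mul_assoc, ← hy, mul_inv_cancel_right]
  have hd : c₀ * c⁻¹ ∈ Subgroup.center G := Subgroup.mul_mem _ hc₀ (Subgroup.inv_mem _ hc)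
  have hdp : (c₀ * c⁻¹) ^ p = 1 := by
    have h1 : (y * z ^ t.val * y⁻¹) ^ p = 1 := by
      rw [conj_pow, ← pow_mul, mul_comm t.val p, pow_mul, hzp, one_pow, mul_one, mul_inv_cancel]
    rw [e1] at h1
    have hcomm : Commute (z ^ t₀.val) (c₀ * c⁻¹) := Subgroup.mem_center_iff.mp hd (z ^ t₀.val)
    rw [hcomm.mul_pow, ← pow_mul, mul_comm t₀.val p, pow_mul, hzp, one_pow, one_mul] at h1
    exact h1
  have hd1 := sing_no_central p z ζ h hl _ hd hdp
  have hcc : c = c₀ := (mul_inv_eq_one.mp hd1).symm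
  refine ⟨hcc, ?_⟩
  rw [hd1, mul_one] at e1
  have h2 : (y * z ^ t.val * y⁻¹) ^ (t₀⁻¹).val = (z ^ t₀.val) ^ (t₀⁻¹).val := by rw [e1]
  rw [conj_pow, ← pow_mul, ← pow_mul, sing_inv_pow p z h.ord t₀ ht₀] at h2
  have h4 : z ^ (t.val * (t₀⁻¹).val) = z ^ (t * t₀⁻¹).val := by
    apply aux_pow_congr p z h.ord
    push_cast
    rw [ZMod.natCast_rightInverse t, ZMod.natCast_rightInverse t₀⁻¹,
      ZMod.natCast_rightInverse (t * t₀⁻¹)]
  rw [h4] at h2
  have hconj : IsConj (z ^ (t * t₀⁻¹).val) z := isConj_iff.mpr ⟨y, h2⟩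
  rcases hl.cnj _ hconj with h5 | h5
  · left
    exact (mul_inv_eq_one₀ ht₀).mp h5
  · right
    have h6 := (mul_inv_eq_iff_eq_mul₀ ht₀).mp h5
    rw [h6, neg_one_mul]

/-- the number of `x` conjugating a conjugate of `z ^ t₀ c₀` to another one -/
theorem sing_N_main (p : ℕ) [Fact p.Prime] (z : G) (ζ : G → ℂ) (h : Hyp G p z ζ)
    (t₀ : ZMod p) (c₀ : G) (ht₀ : t₀ ≠ 0) (hc₀ : c₀ ∈ Subgroup.center G) (x₀ m : G) :
    sing_N (m * (z ^ t₀.val * c₀) * m⁻¹) (x₀ * (z ^ t₀.val * c₀) * x₀⁻¹) =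
      (Nat.card (Subgroup.centralizer ({z} : Set G)) : ℂ) := by
  rw [← sing_N_self z]
  refine sing_N_eq _ _ _ _ ((Equiv.mulLeft x₀⁻¹).trans (Equiv.mulRight m)) (fun x => ?_)
  show x * (m * (z ^ t₀.val * c₀) * m⁻¹) * x⁻¹ = x₀ * (z ^ t₀.val * c₀) * x₀⁻¹ ↔
    (x₀⁻¹ * x * m) * z * (x₀⁻¹ * x * m)⁻¹ = z
  rw [← sing_cent_iff p z ζ h t₀ c₀ ht₀ hc₀ (x₀⁻¹ * x * m)]
  constructor
  · intro h1
    rw [sing_grp1, h1, sing_grp2]
  · intro h1
    rw [sing_grp3 x₀, h1]

/-- the number of triples over an element `g` -/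
theorem sing_count (p : ℕ) [Fact p.Prime] (z : G) (ζ : G → ℂ) (h : Hyp G p z ζ)
    (hl : Loc G p z ζ) (g : G) :
    ∑ τ : ZMod p × G, sing_T p τ * sing_N (z ^ τ.1.val * τ.2) g =
      sing_ind p g * (2 * (Nat.card (Subgroup.centralizer ({z} : Set G)) : ℂ)) := by
  have hp : p.Prime := Fact.out
  by_cases hg : p ∣ orderOf g
  · have hind : sing_ind p g = 1 := by
      unfold sing_ind
      exact if_pos hg
    rw [hind, one_mul]
    obtain ⟨x₀, t₀, ht₀, c₀, hc₀, rfl⟩ := psd p z ζ h hl g hg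
    obtain ⟨n, hn⟩ := hl.inv
    have hne : ((t₀, c₀) : ZMod p × G) ≠ (-t₀, c₀) := by
      intro heq
      exact ht₀ (sing_neg_ne p h.p5 t₀ (congrArg Prod.fst heq))
    rw [Fintype.sum_eq_add (t₀, c₀) (-t₀, c₀) hne]
    · rw [sing_T_pos p t₀ c₀ ht₀ hc₀, sing_T_pos p (-t₀) c₀ (neg_ne_zero.mpr ht₀) hc₀, one_mul,
        one_mul]
      have hA := sing_N_main p z ζ h t₀ c₀ ht₀ hc₀ x₀ 1
      rw [one_mul, inv_one, mul_one] at hA
      have hB := sing_N_main p z ζ h t₀ c₀ ht₀ hc₀ x₀ n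
      have hneg : z ^ (-t₀).val * c₀ = n * (z ^ t₀.val * c₀) * n⁻¹ := by
        have : NeZero p := ⟨hp.ne_zero⟩
        rw [sing_conj_central n _ c₀ hc₀, ← conj_pow, hn, inv_pow]
        congr 1
        apply eq_inv_of_mul_eq_one_left
        rw [← pow_add]
        have e0 : z ^ ((-t₀).val + t₀.val) = z ^ 0 := by
          apply aux_pow_congr p z h.ord
          push_cast
          rw [ZMod.natCast_rightInverse t₀, ZMod.natCast_rightInverse (-t₀), neg_add_cancel]
        rw [e0, pow_zero]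
      show sing_N (z ^ t₀.val * c₀) (x₀ * (z ^ t₀.val * c₀) * x₀⁻¹) +
        sing_N (z ^ (-t₀).val * c₀) (x₀ * (z ^ t₀.val * c₀) * x₀⁻¹) = _
      rw [hA, hneg, hB]
      ring
    · rintro ⟨t, c⟩ ⟨h1, h2⟩
      by_cases hT : t ≠ 0 ∧ c ∈ Subgroup.center G
      · rw [sing_T_pos p t c hT.1 hT.2, one_mul]
        apply sing_N_zero
        intro x hx
        have hy : (x₀⁻¹ * x) * (z ^ t.val * c) * (x₀⁻¹ * x)⁻¹ = z ^ t₀.val * c₀ := by
          have e : (x₀⁻¹ * x) * (z ^ t.val * c) * (x₀⁻¹ * x)⁻¹ =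
              x₀⁻¹ * (x * (z ^ t.val * c) * x⁻¹) * x₀ := by
            simp only [mul_assoc, mul_inv_rev, inv_inv]
          rw [e, hx]
          simp only [mul_assoc, inv_mul_cancel_left, inv_mul_cancel, mul_one]
        obtain ⟨hcc, htt⟩ := sing_conj_param p z ζ h hl t t₀ c c₀ _ ht₀ hT.2 hc₀ hy
        rcases htt with htt | htt
        · exact h1 (by rw [hcc, htt])
        · exact h2 (by rw [hcc, htt])
      · rw [sing_T_neg p t c hT, zero_mul]
  · have hind : sing_ind p g = 0 := by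
      unfold sing_ind
      exact if_neg hg
    rw [hind, zero_mul]
    apply Finset.sum_eq_zero
    rintro ⟨t, c⟩ _
    by_cases hT : t ≠ 0 ∧ c ∈ Subgroup.center G
    · rw [sing_T_pos p t c hT.1 hT.2, one_mul]
      apply sing_N_zero
      intro x hx
      apply hg
      rw [← hx]
      have hord : orderOf (x * (z ^ t.val * c) * x⁻¹) = orderOf (z ^ t.val * c) :=
        (MulAut.conj x).orderOf_eq _
      rw [hord]
      exact sing_singular p z ζ h t c hT.1 hT.2
    · rw [sing_T_neg p t c hT, zero_mul]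

/-- the double counting identity -/
theorem sing_core (p : ℕ) [Fact p.Prime] (z : G) (ζ : G → ℂ) (h : Hyp G p z ζ)
    (hl : Loc G p z ζ) (F : G → ℂ) (hF : ∀ g x : G, F (x * g * x⁻¹) = F g) :
    (2 * (Nat.card (Subgroup.centralizer ({z} : Set G)) : ℂ)) * ∑ g : G, sing_ind p g * F g =
      (Nat.card G : ℂ) * ∑ τ : ZMod p × G, sing_T p τ * F (z ^ τ.1.val * τ.2) := by
  calc (2 * (Nat.card (Subgroup.centralizer ({z} : Set G)) : ℂ)) * ∑ g : G, sing_ind p g * F g
      = ∑ g : G, (sing_ind p g * (2 * (Nat.card (Subgroup.centralizer ({z} : Set G)) : ℂ))) *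
          F g := by
        rw [Finset.mul_sum]
        apply Finset.sum_congr rfl
        intro g _
        ring
    _ = ∑ g : G, (∑ τ : ZMod p × G, sing_T p τ * sing_N (z ^ τ.1.val * τ.2) g) * F g := by
        apply Finset.sum_congr rfl
        intro g _
        rw [sing_count p z ζ h hl g]
    _ = ∑ τ : ZMod p × G, sing_T p τ * ∑ g : G, sing_N (z ^ τ.1.val * τ.2) g * F g := by
        simp only [Finset.sum_mul, Finset.mul_sum]
        rw [Finset.sum_comm]
        apply Finset.sum_congr rfl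
        intro τ _
        apply Finset.sum_congr rfl
        intro g _
        ring
    _ = ∑ τ : ZMod p × G, sing_T p τ * ((Nat.card G : ℂ) * F (z ^ τ.1.val * τ.2)) := by
        apply Finset.sum_congr rfl
        intro τ _
        rw [sing_N_sum]
        congr 1
        simp only [hF]
        rw [Finset.sum_const, Finset.card_univ, nsmul_eq_mul, Nat.card_eq_fintype_card]
    _ = (Nat.card G : ℂ) * ∑ τ : ZMod p × G, sing_T p τ * F (z ^ τ.1.val * τ.2) := by
        rw [Finset.mul_sum]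
        apply Finset.sum_congr rfl
        intro τ _
        ring

open Classical in
/-- PIECE SING -/
theorem sing (p : ℕ) [Fact p.Prime] (z : G) (ζ : G → ℂ) (h : Hyp G p z ζ)
    (hl : Loc G p z ζ) : Sing p z := by
  unfold Sing
  intro F hF
  have hp : p.Prime := Fact.out
  have hK := ccard p z ζ h hl
  have key := sing_core p z ζ h hl F hF
  have e1 : ∑ g : G, (if p ∣ orderOf g then F g else 0) = ∑ g : G, sing_ind p g * F g := by
    apply Finset.sum_congr rfl
    intro g _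
    unfold sing_ind
    split_ifs <;> simp
  have e2 : ∑ t : ZMod p, ∑ c : G,
      (if t ≠ 0 ∧ c ∈ Subgroup.center G then F (z ^ t.val * c) else 0) =
      ∑ τ : ZMod p × G, sing_T p τ * F (z ^ τ.1.val * τ.2) := by
    rw [Fintype.sum_prod_type]
    apply Finset.sum_congr rfl
    intro t _
    apply Finset.sum_congr rfl
    intro c _
    by_cases hT : t ≠ 0 ∧ c ∈ Subgroup.center G
    · rw [if_pos hT, sing_T_pos p t c hT.1 hT.2, one_mul]
    · rw [if_neg hT, sing_T_neg p t c hT, zero_mul]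
  rw [e1, e2]
  rw [hK] at key
  push_cast at key
  have hne : (2 * (p : ℂ) * (Nat.card (Subgroup.center G) : ℂ)) ≠ 0 := by
    have h1 : (p : ℂ) ≠ 0 := Nat.cast_ne_zero.mpr hp.ne_zero
    have h2 : (Nat.card (Subgroup.center G) : ℂ) ≠ 0 := Nat.cast_ne_zero.mpr Nat.card_pos.ne'
    exact mul_ne_zero (mul_ne_zero two_ne_zero h1) h2
  rw [div_mul_eq_mul_div, eq_div_iff hne]
  linear_combination key

end leaves

end Cfsg.Agent.Lib.Helper92.PT
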