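import Cfsg.Agent.Lib.Helper10.TH0

/-!
Job-board piece TH-C6 (helper10's S1632 project): a function on the upper half plane given
everywhere by a convergent `q`-series is holomorphic.
-/

set_option autoImplicit false

namespace Cfsg.Agent.Lib.Helper92.THC6

open Matrix Complex UpperHalfPlane ModularForm MatrixGroups Cfsg.Agent.Lib.Helper10.TH
open scoped Manifold Real

/-- C6 -/
theorem mdiff_of_hasSum {f : ℍ → ℂ} {c : ℕ → ℂ}
    (hf : ∀ τ : ℍ, HasSum (fun m : ℕ => c m • Function.Periodic.qParam 1 (τ : ℂ) ^ m) (f τ)) :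
    MDifferentiable 𝓘(ℂ) 𝓘(ℂ) f := by
  obtain ⟨p, hp⟩ : ∃ p : FormalMultilinearSeries ℂ ℂ ℂ,
      p = FormalMultilinearSeries.ofScalars ℂ c := ⟨_, rfl⟩
  have hpapp : ∀ (n : ℕ) (y : ℂ), p n (fun _ => y) = c n • y ^ n := by
    intro n y
    rw [hp]
    exact FormalMultilinearSeries.ofScalars_apply_eq ..
  have hsum : ∀ q : ℂ, ‖q‖ < 1 → q ≠ 0 → Summable (fun m : ℕ => c m • q ^ m) := by
    intro q hq hq0
    have h1 := Function.Periodic.im_invQParam_pos_of_norm_lt_one one_pos hq hq0
    have h2 := hf ⟨Function.Periodic.invQParam 1 q, h1⟩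
    rw [UpperHalfPlane.coe_mk, Function.Periodic.qParam_right_inv one_ne_zero hq0] at h2
    exact h2.summable
  have hrad : 1 ≤ p.radius := by
    refine le_of_forall_lt_imp_le_of_dense fun r hr => ?_
    rcases eq_or_ne r 0 with rfl | hr'
    · simp
    · lift r to NNReal using hr.ne_top
      apply FormalMultilinearSeries.le_radius_of_summable
      have h3 := (hsum (r : ℂ) (by simpa using hr) (by exact_mod_cast hr')).norm
      simpa [hp, smul_eq_mul, norm_mul, mul_comm, mul_left_comm, mul_assoc] using h3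
  have hpos : 0 < p.radius := lt_of_lt_of_le one_pos hrad
  have hg := p.hasFPowerSeriesOnBall hpos
  have hmem : ∀ q : ℂ, ‖q‖ < 1 → q ∈ Metric.eball (0 : ℂ) p.radius := by
    intro q hq
    rw [Metric.mem_eball, edist_zero_right]
    refine lt_of_lt_of_le ?_ hrad
    rw [← ofReal_norm, ENNReal.ofReal_lt_one]
    exact hq
  have hgd : ∀ q : ℂ, ‖q‖ < 1 → DifferentiableAt ℂ p.sum q := fun q hq =>
    (hg.analyticAt_of_mem (hmem q hq)).differentiableAt
  have hfeq : ∀ τ : ℍ, f τ = p.sum (Function.Periodic.qParam 1 (τ : ℂ)) := by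
    intro τ
    have hq := Function.Periodic.norm_qParam_lt_one one_pos τ.im_pos
    have h4 := hg.hasSum (hmem _ hq)
    rw [zero_add] at h4
    simp only [hpapp] at h4
    exact (hf τ).unique h4
  rw [UpperHalfPlane.mdifferentiable_iff]
  have h5 : DifferentiableOn ℂ (fun z : ℂ => p.sum (Function.Periodic.qParam 1 z))
      {z | 0 < z.im} := by
    intro z hz
    apply DifferentiableAt.differentiableWithinAt
    exact (hgd _ (Function.Periodic.norm_qParam_lt_one one_pos hz)).comp z
      (Function.Periodic.differentiable_qParam z)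
  apply h5.congr
  intro z hz
  simp only [Function.comp_apply]
  rw [UpperHalfPlane.ofComplex_apply_of_im_pos hz, hfeq]

end Cfsg.Agent.Lib.Helper92.THC6
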